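import Mathlib
import Cfsg.Prelude.Def_SteinbergCover
import Cfsg.Prelude.Def_ChevG2
import Cfsg.Agent.H94.HS.F4

/-!
# S3662 (helper9): groups of unbounded order with the prime graph of `G₂(4)` — definitions and piece statements

`K4` is helper94's computable field with four elements (`z o w v` = `0 1 ω ω²`).
`Xc r t` is the root element `x_r(t)` in the 6-dimensional module of `G₂` in characteristic 2 (basis
`u₁ u₂ u₃ u₁* u₂* u₃*` of weights `ε₁ ε₂ ε₃ -ε₁ -ε₂ -ε₃`, `ε₁+ε₂+ε₃ = 0`; short root `a = ε₁`, long root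
`b = ε₂ - ε₁`; roots indexed as in `Cfsg.Lie.chevG2`: `0..11` =
`-3a-2b, -3a-b, -2a-b, -a-b, -a, -b, b, a, a+b, 2a+b, 3a+b, 3a+2b`), and the identity for `r ≥ 12`.
These matrices satisfy Steinberg's relators (R1), (R2) of `chevG2` (checked numerically), so the Steinberg cover,
hence (central kernel, simple group) the Chevalley group `L = chevG2.group F`, `#F = 4`, acts faithfully on `K4⁶`,
and elements of order 7 and 13 act without fixed points.  `H = (K4⁶)^k ⋊ L` then has the prime graph of `L`.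
-/

set_option autoImplicit false

namespace Cfsg.Agent.H9.PG

open Cfsg Cfsg.Lie
open scoped Matrix

/-- helper94's field with four elements -/
abbrev K4 : Type := Cfsg.Agent.H94.HS.F4

/-- the root element `x_r(t)` on the 6-dimensional module (identity for `r ≥ 12`) -/
def Xc (r : ℕ) (t : K4) : Matrix (Fin 6) (Fin 6) K4 :=
  match r with
  | 0 => !![1, 0, 0, 0, 0, 0;
      0, 1, 0, 0, 0, 0;
      0, t, 1, 0, 0, 0;
      0, 0, 0, 1, 0, 0;
      0, 0, 0, 0, 1, t;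
      0, 0, 0, 0, 0, 1]
  | 1 => !![1, 0, 0, 0, 0, 0;
      0, 1, 0, 0, 0, 0;
      t, 0, 1, 0, 0, 0;
      0, 0, 0, 1, 0, t;
      0, 0, 0, 0, 1, 0;
      0, 0, 0, 0, 0, 1]
  | 2 => !![1, 0, 0, 0, 0, 0;
      0, 1, 0, 0, 0, 0;
      0, 0, 1, 0, 0, t * t;
      0, t, 0, 1, 0, 0;
      t, 0, 0, 0, 1, 0;
      0, 0, 0, 0, 0, 1]
  | 3 => !![1, 0, 0, 0, 0, t;
      0, 1, 0, 0, 0, 0;
      0, 0, 1, t, 0, 0;
      0, 0, 0, 1, 0, 0;
      0, t * t, 0, 0, 1, 0;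
      0, 0, 0, 0, 0, 1]
  | 4 => !![1, 0, 0, 0, 0, 0;
      0, 1, 0, 0, 0, t;
      0, 0, 1, 0, t, 0;
      t * t, 0, 0, 1, 0, 0;
      0, 0, 0, 0, 1, 0;
      0, 0, 0, 0, 0, 1]
  | 5 => !![1, t, 0, 0, 0, 0;
      0, 1, 0, 0, 0, 0;
      0, 0, 1, 0, 0, 0;
      0, 0, 0, 1, 0, 0;
      0, 0, 0, t, 1, 0;
      0, 0, 0, 0, 0, 1]
  | 6 => !![1, 0, 0, 0, 0, 0;
      t, 1, 0, 0, 0, 0;
      0, 0, 1, 0, 0, 0;
      0, 0, 0, 1, t, 0;
      0, 0, 0, 0, 1, 0;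
      0, 0, 0, 0, 0, 1]
  | 7 => !![1, 0, 0, t * t, 0, 0;
      0, 1, 0, 0, 0, 0;
      0, 0, 1, 0, 0, 0;
      0, 0, 0, 1, 0, 0;
      0, 0, t, 0, 1, 0;
      0, t, 0, 0, 0, 1]
  | 8 => !![1, 0, 0, 0, 0, 0;
      0, 1, 0, 0, t * t, 0;
      0, 0, 1, 0, 0, 0;
      0, 0, t, 1, 0, 0;
      0, 0, 0, 0, 1, 0;
      t, 0, 0, 0, 0, 1]
  | 9 => !![1, 0, 0, 0, t, 0;
      0, 1, 0, t, 0, 0;
      0, 0, 1, 0, 0, 0;
      0, 0, 0, 1, 0, 0;
      0, 0, 0, 0, 1, 0;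
      0, 0, t * t, 0, 0, 1]
  | 10 => !![1, 0, t, 0, 0, 0;
      0, 1, 0, 0, 0, 0;
      0, 0, 1, 0, 0, 0;
      0, 0, 0, 1, 0, 0;
      0, 0, 0, 0, 1, 0;
      0, 0, 0, t, 0, 1]
  | 11 => !![1, 0, 0, 0, 0, 0;
      0, 1, t, 0, 0, 0;
      0, 0, 1, 0, 0, 0;
      0, 0, 0, 1, 0, 0;
      0, 0, 0, 0, 1, 0;
      0, 0, 0, 0, t, 1]
  | _ => 1

/-- the invariant alternating form -/
def Jm : Matrix (Fin 6) (Fin 6) K4 :=
  !![0, 0, 0, 1, 0, 0;
     0, 0, 0, 0, 1, 0;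
     0, 0, 0, 0, 0, 1;
     1, 0, 0, 0, 0, 0;
     0, 1, 0, 0, 0, 0;
     0, 0, 1, 0, 0, 0]

theorem Xc_ge (r : ℕ) (h : 12 ≤ r) (t : K4) : Xc r t = 1 := by
  obtain ⟨k, rfl⟩ := Nat.exists_eq_add_of_le' h
  rfl

set_option maxRecDepth 100000 in
theorem Xc_sq_fin : ∀ r : Fin 12, ∀ t : K4, Xc r t * Xc r t = 1 := by decide +kernel

theorem Xc_sq (r : ℕ) (t : K4) : Xc r t * Xc r t = 1 := by
  rcases lt_or_ge r 12 with h | h
  · exact Xc_sq_fin ⟨r, h⟩ t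
  · rw [Xc_ge r h, mul_one]

/-- `x_r(t)` as an element of `GL₆(K4)` (it is its own inverse; the identity for `r ≥ 12`) -/
def XG (r : ℕ) (t : K4) : GL (Fin 6) K4 := ⟨Xc r t, Xc r t, Xc_sq r t, Xc_sq r t⟩

/-- an element of order 6: `x_{3a+2b}(1) x_a(1) x_{-a}(1)` -/
def W6 : GL (Fin 6) K4 := XG 11 1 * XG 7 1 * XG 4 1

/-- an element of order 10: `x_{3a+2b}(1) x_a(1) x_{-a}(ω)` -/
def W10 : GL (Fin 6) K4 := XG 11 1 * XG 7 1 * XG 4 Cfsg.Agent.H94.HS.F4.w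

/-- an element of order 7 without fixed vectors -/
def W7 : GL (Fin 6) K4 := XG 7 Cfsg.Agent.H94.HS.F4.v * XG 1 Cfsg.Agent.H94.HS.F4.w * XG 8 Cfsg.Agent.H94.HS.F4.w

/-- an element of order 13 without fixed vectors -/
def W13 : GL (Fin 6) K4 :=
  XG 6 Cfsg.Agent.H94.HS.F4.v * XG 5 Cfsg.Agent.H94.HS.F4.w * XG 2 Cfsg.Agent.H94.HS.F4.w * XG 7 Cfsg.Agent.H94.HS.F4.w

/-! ## The piece statements -/

universe u v

/-- (R1) additivity -/
def StR1 : Prop := ∀ (r : ℕ) (a b : K4), XG r a * XG r b = XG r (a + b)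

/-- (R2) Chevalley's commutator formula with the constants of `chevG2` -/
def StR2 : Prop := ∀ r s : ℕ, r < 12 → s < 12 → s ≠ r → s ≠ chevG2.neg r → ∀ a b : K4,
    (XG s b)⁻¹ * (XG r a)⁻¹ * XG s b * XG r a =
      ((chevG2.commTerms r s).map fun c => XG c.1 ((c.2.1 : K4) * (-a) ^ c.2.2.1 * b ^ c.2.2.2)).prod

/-- the Steinberg cover maps to `GL₆(K4)` -/
def StHom : Prop := ∀ (F : Type u) [Field F] (e : F ≃+* K4),
    ∃ φ : chevG2.SteinbergCover F →* GL (Fin 6) K4, ∀ (r : ℕ) (t : F), φ (chevG2.scGen F r t) = XG r (e t)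

/-- the root elements preserve the alternating form -/
def StSymp : Prop := ∀ (r : ℕ) (a : K4), (Xc r a)ᵀ * Jm * Xc r a = Jm

/-- a matrix commuting with all root elements and preserving the form is the identity -/
def StCent : Prop := ∀ M : Matrix (Fin 6) (Fin 6) K4,
    (∀ r : ℕ, r < 12 → ∀ a : K4, M * Xc r a = Xc r a * M) → Mᵀ * Jm * M = Jm → M = 1

/-- the Chevalley group acts faithfully: descent of `φ` along the central extension `θ` -/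
def StRho : Prop := ∀ (F : Type u) [Field F] (e : F ≃+* K4),
    (∃ θ : chevG2.SteinbergCover F →* ↥(chevG2.group F), Function.Surjective θ ∧
      θ.ker ≤ Subgroup.center (chevG2.SteinbergCover F) ∧
      ∀ (r : ℕ) (t : F), r < chevG2.nroots →
        ((θ (chevG2.scGen F r t) : GL chevG2.Idx F) : Matrix chevG2.Idx chevG2.Idx F) = chevG2.x F r t) →
    IsSimpleGroup ↥(chevG2.group F) →
    (∃ φ : chevG2.SteinbergCover F →* GL (Fin 6) K4, ∀ (r : ℕ) (t : F), φ (chevG2.scGen F r t) = XG r (e t)) →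
    ∃ (ρ : ↥(chevG2.group F) →* GL (Fin 6) K4) (x : ℕ → F → ↥(chevG2.group F)),
      Function.Injective ρ ∧ ∀ (r : ℕ) (t : F), ρ (x r t) = XG r (e t)

/-- orders 6 and 10 -/
def StOrd : Prop := orderOf W6 = 6 ∧ orderOf W10 = 10

/-- elements of order 7 and 13 without fixed vectors -/
def StFpf : Prop :=
  (W7 ^ 7 = 1 ∧ ∀ x : Fin 6 → K4, (W7 : Matrix (Fin 6) (Fin 6) K4) *ᵥ x = x → x = 0) ∧
  (W13 ^ 13 = 1 ∧ ∀ x : Fin 6 → K4, (W13 : Matrix (Fin 6) (Fin 6) K4) *ᵥ x = x → x = 0)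

/-- Sylow: if `p ∥ #L` and one `g` with `ρ(g)^p = 1` has no fixed vectors, no element of order `p` has any -/
def StSyl : Prop := ∀ (L : Type u) [Group L] [Finite L] (ρ : L →* GL (Fin 6) K4) (p : ℕ), p.Prime →
    p ∣ Nat.card L → ¬ p ^ 2 ∣ Nat.card L → ∀ g : L, (ρ g) ^ p = 1 →
    (∀ x : Fin 6 → K4, ((ρ g : GL (Fin 6) K4) : Matrix (Fin 6) (Fin 6) K4) *ᵥ x = x → x = 0) →
    ∀ y : L, orderOf y = p →
      ∀ x : Fin 6 → K4, ((ρ y : GL (Fin 6) K4) : Matrix (Fin 6) (Fin 6) K4) *ᵥ x = x → x = 0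

/-- the split extension of an elementary abelian 2-group `A` by `L`, as a group on a type of universe 0 -/
def StSemi : Prop := ∀ (L : Type u) [Group L] [Finite L] (A : Type v) [AddCommGroup A] [Finite A]
    [DistribMulAction L A], (∀ a : A, a + a = 0) →
    ∃ (H : Type) (_ : Group H) (_ : Finite H), Nat.card H = Nat.card A * Nat.card L ∧
      (∀ n : ℕ, (∃ y : L, orderOf y = n) → ∃ g : H, orderOf g = n) ∧
      ∀ p q : ℕ, p.Prime → q.Prime → p ≠ q → (∃ g : H, orderOf g = p * q) →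
        (∃ y : L, orderOf y = p * q) ∨
          ∃ (y : L) (a : A), a ≠ 0 ∧ y • a = a ∧ ((p = 2 ∧ orderOf y = q) ∨ (q = 2 ∧ orderOf y = p))

/-- a field with four elements is `K4` -/
def StField : Prop := ∀ (F : Type u) [Field F] [Fintype F], Fintype.card F = 4 → Nonempty (F ≃+* K4)

end Cfsg.Agent.H9.PG
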