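import Cfsg.Agent.H23.Simple
import Cfsg.Agent.H23.ChkG2
import Cfsg.Agent.H23.NconjG2
import Cfsg.Agent.H23.TabG2
import Cfsg.Agent.H23.CommG2
import Cfsg.Agent.H23.Tab2G2
import Cfsg.Agent.H23.PerfG2
import Cfsg.Agent.H46.StMain
import Cfsg.Agent.H46.StDataG2
import Cfsg.Agent.H23.CommAllG2

/-!
# Type `G₂` only: the Steinberg cover and the simplicity of `chevG2.group F`

The content of S2396 (for `chevG2`) and of S1055, assembled again from helper23's and helper46's
modules for `G₂` alone (the proofs are the `G₂` branches of `H46/StAll.lean`, `S2396.lean`,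
`H23/AllB.lean`, `S1055.lean`), so that a file using them does not have the tables of the other six
types in its closure.
-/

set_option autoImplicit false

namespace Cfsg.Agent.H9.G2Only

open Cfsg.Lie Cfsg.Agent.H23

/-- `G₂(F)` is simple and not commutative when `F` has more than two elements. -/
theorem simple {F : Type*} [Field F] (h : ∃ a : F, a ≠ 0 ∧ a ≠ 1) :
    IsSimpleGroup ↥(chevG2.group F) ∧ ¬ IsMulCommutative ↥(chevG2.group F) :=
  simple_of
    ⟨chk_G2.sem F, nconj_G2.semN chk_G2.tblOK F, comm_G2.semC chk_G2.tblOK F, tab_G2, tabC_G2,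
      etaNeg_G2, tab2_G2⟩
    (trin_G2.semV chk_G2.tblOK F) _ tabW_G2
    (perfect_of_perfOK chk_G2.tblOK (chk_G2.sem F) perf_G2 (fun _ => h)) tabT_G2 dynkin_G2

/-- The Steinberg cover of `G₂(K)` maps onto it with central kernel. -/
theorem cover (K : Type*) [Field K] :
    ∃ θ : chevG2.SteinbergCover K →* ↥(chevG2.group K), Function.Surjective θ ∧
      θ.ker ≤ Subgroup.center (chevG2.SteinbergCover K) ∧
      ∀ (r : ℕ) (t : K), r < chevG2.nroots →
        ((θ (chevG2.scGen K r t) : GL chevG2.Idx K) : Matrix chevG2.Idx chevG2.Idx K) =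
          chevG2.x K r t :=
  Cfsg.Agent.H46.cover_central (Cfsg.Agent.H46.stChkG2.tab tab_G2)
    ⟨chk_G2.sem K, nconj_G2.semN chk_G2.tblOK K, comm_G2.semC chk_G2.tblOK K, tab_G2, tabC_G2,
      etaNeg_G2, tab2_G2⟩
    (trin_G2.semV chk_G2.tblOK K)
    (fun r s hr hs h1 h2 t u => commAll_G2 r s hr hs h1 h2 t u)

end Cfsg.Agent.H9.G2Only
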