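import Mathlib
import Cfsg.Agent.H45.S8Defs0

/-!
helper9: piece BURN of S1158 (helper45's team project): Burnside's counts for a 2-transitive
action.
-/

set_option autoImplicit false

namespace Cfsg.Agent.H9.S8

open Cfsg.Agent.H45.S8

universe u v

theorem burn : StBurn.{u, v} := by
  intro G _ _ Ω _ _ hΩ h2
  classical
  have hne : Nonempty Ω := by
    rw [← Fintype.card_pos_iff]
    omega
  have hex : ∀ x : Ω, ∃ y : Ω, y ≠ x := fun x => Fintype.exists_ne_of_one_lt_card (by omega) x
  have htr : ∀ x x' : Ω, ∃ g : G, g • x = x' := by
    intro x x'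
    obtain ⟨y, hy⟩ := hex x
    obtain ⟨y', hy'⟩ := hex x'
    obtain ⟨g, hg, -⟩ := h2 x y x' y' hy.symm hy'.symm
    exact ⟨g, hg⟩
  constructor
  · have hB := MulAction.sum_card_fixedBy_eq_card_orbits_mul_card_group G Ω
    have h1 : Fintype.card (MulAction.orbitRel.Quotient G Ω) = 1 := by
      rw [Fintype.card_eq_one_iff]
      obtain ⟨x0⟩ := hne
      refine ⟨Quotient.mk'' x0, fun q => ?_⟩
      induction q using Quotient.inductionOn' with
      | h x =>
        apply Quotient.sound'
        obtain ⟨g, hg⟩ := htr x0 x
        exact ⟨g, hg⟩
    rw [h1, one_mul] at hB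
    rw [← hB]
    apply Finset.sum_congr rfl
    intro g _
    exact Nat.card_eq_fintype_card
  · have hB := MulAction.sum_card_fixedBy_eq_card_orbits_mul_card_group G (Ω × Ω)
    have hwd : ∀ p p' : Ω × Ω, (MulAction.orbitRel G (Ω × Ω)) p p' →
        decide (p.1 = p.2) = decide (p'.1 = p'.2) := by
      rintro ⟨x, y⟩ ⟨x', y'⟩ h
      rw [MulAction.orbitRel_apply] at h
      obtain ⟨g, hg⟩ := h
      have hg' : (g • x', g • y') = (x, y) := hg
      have hx : g • x' = x := congrArg Prod.fst hg'
      have hy : g • y' = y := congrArg Prod.snd hg'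
      simp only [decide_eq_decide]
      constructor
      · intro hxy
        subst hx
        subst hy
        exact MulAction.injective g hxy
      · intro hxy
        rw [← hx, ← hy, hxy]
    have hbij : Function.Bijective (fun q : MulAction.orbitRel.Quotient G (Ω × Ω) =>
        Quotient.liftOn' q (fun p => decide (p.1 = p.2)) hwd) := by
      constructor
      · intro q q'
        induction q using Quotient.inductionOn' with
        | h p =>
          induction q' using Quotient.inductionOn' with
          | h p' =>
            obtain ⟨x, y⟩ := p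
            obtain ⟨x', y'⟩ := p'
            intro h
            have h' : decide (x = y) = decide (x' = y') := h
            simp only [decide_eq_decide] at h'
            apply Quotient.sound'
            show (MulAction.orbitRel G (Ω × Ω)) (x, y) (x', y')
            rw [MulAction.orbitRel_apply]
            by_cases hxy : x = y
            · have hxy' := h'.1 hxy
              subst hxy
              subst hxy'
              obtain ⟨g, hg⟩ := htr x' x
              exact ⟨g, by show (g • x', g • x') = (x, x); rw [hg]⟩
            · have hxy' : x' ≠ y' := fun h => hxy (h'.2 h)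
              obtain ⟨g, hg1, hg2⟩ := h2 x' y' x y hxy' hxy
              exact ⟨g, by show (g • x', g • y') = (x, y); rw [hg1, hg2]⟩
      · intro b
        obtain ⟨x0⟩ := hne
        obtain ⟨y0, hy0⟩ := hex x0
        cases b with
        | true => exact ⟨Quotient.mk'' (x0, x0), by simp⟩
        | false => exact ⟨Quotient.mk'' (y0, x0), by simpa using hy0⟩
    have h2' : Fintype.card (MulAction.orbitRel.Quotient G (Ω × Ω)) = 2 := by
      rw [Fintype.card_of_bijective hbij, Fintype.card_bool]
    rw [h2'] at hB
    rw [← hB]
    apply Finset.sum_congr rfl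
    intro g _
    rw [← Nat.card_eq_fintype_card, sq, ← Nat.card_prod]
    apply Nat.card_congr
    exact
      { toFun := fun p => ⟨(p.1.1, p.2.1), by
          show (g • (p.1 : Ω), g • (p.2 : Ω)) = ((p.1 : Ω), (p.2 : Ω))
          rw [p.1.2, p.2.2]⟩
        invFun := fun p => (⟨p.1.1, congrArg Prod.fst p.2⟩, ⟨p.1.2, congrArg Prod.snd p.2⟩)
        left_inv := fun p => rfl
        right_inv := fun p => rfl }

end Cfsg.Agent.H9.S8
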