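import Mathlib
import Cfsg.Agent.H45.S8Defs0

/-!
helper9: piece CLS (`StClassCount`) of S1158 (helper45's team project).
-/

set_option autoImplicit false

namespace Cfsg.Agent.H9.S8

open Cfsg.Agent.H45.S8

universe u

theorem classCount : StClassCount.{u} := by
  intro G _ _ C d hC
  classical
  -- the chosen conjugating element
  have hex : ∀ g : ↥(ConjSet C d), ∃ c : G, c * (g : G) * c⁻¹ ∈ C := fun g => g.2.2
  let c0 : ↥(ConjSet C d) → G := fun g => Classical.choose (hex g)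
  have hc0 : ∀ g : ↥(ConjSet C d), c0 g * (g : G) * (c0 g)⁻¹ ∈ C :=
    fun g => Classical.choose_spec (hex g)
  have hpow : ∀ (c g : G), g ^ d ≠ 1 → (c * g * c⁻¹) ^ d ≠ 1 := by
    intro c g hg h
    apply hg
    rw [conj_pow] at h
    calc g ^ d = c⁻¹ * (c * g ^ d * c⁻¹) * c := by group
      _ = 1 := by rw [h]; group
  -- pairs
  let P : Type u := {p : G × G // p.2 ^ d ≠ 1 ∧ p.1 * p.2 * p.1⁻¹ ∈ C}
  let e1 : P ≃ G × {x : G // x ∈ C ∧ x ^ d ≠ 1} :=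
    { toFun := fun p => (p.1.1, ⟨p.1.1 * p.1.2 * p.1.1⁻¹, p.2.2, hpow _ _ p.2.1⟩)
      invFun := fun q => ⟨(q.1, q.1⁻¹ * (q.2 : G) * q.1), by
        refine ⟨?_, ?_⟩
        · have h := hpow q.1⁻¹ (q.2 : G) q.2.2.2
          rw [inv_inv] at h
          exact h
        · have e : q.1 * (q.1⁻¹ * (q.2 : G) * q.1) * q.1⁻¹ = (q.2 : G) := by group
          show q.1 * (q.1⁻¹ * (q.2 : G) * q.1) * q.1⁻¹ ∈ C
          rw [e]
          exact q.2.2.1⟩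
      left_inv := by
        rintro ⟨⟨c, g⟩, h1, h2⟩
        apply Subtype.ext
        show (c, c⁻¹ * (c * g * c⁻¹) * c) = (c, g)
        congr 1
        group
      right_inv := by
        rintro ⟨c, x, hx1, hx2⟩
        apply Prod.ext
        · rfl
        · apply Subtype.ext
          show c * (c⁻¹ * x * c) * c⁻¹ = x
          group }
  have hnorm : ∀ (g : ↥(ConjSet C d)) (c : G), c * (g : G) * c⁻¹ ∈ C →
      c * (c0 g)⁻¹ ∈ Subgroup.normalizer (C : Set G) := by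
    intro g c hc
    have hg := g.2.1
    have h0 := hc0 g
    have hC0 := hC _ h0 (hpow _ _ hg)
    have hC1 := hC _ hc (hpow _ _ hg)
    rw [Subgroup.mem_normalizer_iff]
    intro h
    have key : c * (c0 g)⁻¹ * (c0 g * (g : G) * (c0 g)⁻¹) * (c * (c0 g)⁻¹)⁻¹ = c * (g : G) * c⁻¹ := by
      group
    constructor
    · intro hh
      rw [← hC0, Subgroup.mem_centralizer_singleton_iff] at hh
      rw [← hC1, Subgroup.mem_centralizer_singleton_iff, ← key]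
      calc c * (c0 g)⁻¹ * h * (c * (c0 g)⁻¹)⁻¹ *
            (c * (c0 g)⁻¹ * (c0 g * (g : G) * (c0 g)⁻¹) * (c * (c0 g)⁻¹)⁻¹)
          = c * (c0 g)⁻¹ * (h * (c0 g * (g : G) * (c0 g)⁻¹)) * (c * (c0 g)⁻¹)⁻¹ := by group
        _ = c * (c0 g)⁻¹ * ((c0 g * (g : G) * (c0 g)⁻¹) * h) * (c * (c0 g)⁻¹)⁻¹ := by rw [hh]
        _ = c * (c0 g)⁻¹ * (c0 g * (g : G) * (c0 g)⁻¹) * (c * (c0 g)⁻¹)⁻¹ *
            (c * (c0 g)⁻¹ * h * (c * (c0 g)⁻¹)⁻¹) := by group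
    · intro hh
      rw [← hC1, Subgroup.mem_centralizer_singleton_iff, ← key] at hh
      rw [← hC0, Subgroup.mem_centralizer_singleton_iff]
      calc h * (c0 g * (g : G) * (c0 g)⁻¹)
          = (c * (c0 g)⁻¹)⁻¹ * (c * (c0 g)⁻¹ * h * (c * (c0 g)⁻¹)⁻¹ *
            (c * (c0 g)⁻¹ * (c0 g * (g : G) * (c0 g)⁻¹) * (c * (c0 g)⁻¹)⁻¹)) *
              (c * (c0 g)⁻¹) := by group
        _ = (c * (c0 g)⁻¹)⁻¹ * (c * (c0 g)⁻¹ * (c0 g * (g : G) * (c0 g)⁻¹) * (c * (c0 g)⁻¹)⁻¹ *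
            (c * (c0 g)⁻¹ * h * (c * (c0 g)⁻¹)⁻¹)) * (c * (c0 g)⁻¹) := by rw [hh]
        _ = (c0 g * (g : G) * (c0 g)⁻¹) * h := by group
  let e2 : P ≃ ↥(ConjSet C d) × ↥(Subgroup.normalizer (C : Set G)) :=
    { toFun := fun p => (⟨p.1.2, p.2.1, p.1.1, p.2.2⟩,
        ⟨p.1.1 * (c0 ⟨p.1.2, p.2.1, p.1.1, p.2.2⟩)⁻¹, hnorm ⟨p.1.2, p.2.1, p.1.1, p.2.2⟩ p.1.1 p.2.2⟩)
      invFun := fun q => ⟨((q.2 : G) * c0 q.1, (q.1 : G)), q.1.2.1, by
        have h := (Subgroup.mem_normalizer_iff.1 q.2.2 _).1 (hc0 q.1)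
        have e : (q.2 : G) * c0 q.1 * (q.1 : G) * ((q.2 : G) * c0 q.1)⁻¹ =
            (q.2 : G) * (c0 q.1 * (q.1 : G) * (c0 q.1)⁻¹) * (q.2 : G)⁻¹ := by group
        show (q.2 : G) * c0 q.1 * (q.1 : G) * ((q.2 : G) * c0 q.1)⁻¹ ∈ C
        rw [e]
        exact h⟩
      left_inv := by
        rintro ⟨⟨c, g⟩, h1, h2⟩
        apply Subtype.ext
        show (c * (c0 ⟨g, h1, c, h2⟩)⁻¹ * c0 ⟨g, h1, c, h2⟩, g) = (c, g)
        congr 1
        group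
      right_inv := by
        rintro ⟨⟨g, hg⟩, ⟨n, hn⟩⟩
        apply Prod.ext
        · rfl
        · apply Subtype.ext
          show n * c0 ⟨g, hg⟩ * (c0 ⟨g, hg⟩)⁻¹ = n
          group }
  have h1 : Nat.card P = Nat.card G * Nat.card {x : G // x ∈ C ∧ x ^ d ≠ 1} := by
    rw [Nat.card_congr e1, Nat.card_prod]
  have h2 : Nat.card P = Nat.card ↥(ConjSet C d) *
      Nat.card ↥(Subgroup.normalizer (C : Set G)) := by
    rw [Nat.card_congr e2, Nat.card_prod]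
  rw [← Nat.card_coe_set_eq, ← h2, h1]

end Cfsg.Agent.H9.S8
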