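import Mathlib
import Cfsg.Agent.H45.S8Defs0

/-!
helper9: piece FIXCNT of S1158 (helper45's team project): the number of fixed-point-free
elements from Burnside's counts.
-/

set_option autoImplicit false

namespace Cfsg.Agent.H9.S8

open Cfsg.Agent.H45.S8

universe u

/-- splitting a sum over a finite group into `1`, the involutions and the rest -/
theorem sum_split {G : Type u} [Group G] [Fintype G] [DecidableEq G] (f : G → ℕ) :
    ∑ g : G, f g = f 1 + ∑ g ∈ Finset.univ.filter (fun g : G => g ≠ 1 ∧ g * g = 1), f g +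
      ∑ g ∈ Finset.univ.filter (fun g : G => g * g ≠ 1), f g := by
  have h1 := Finset.sum_filter_add_sum_filter_not Finset.univ (fun g : G => g * g = 1) f
  have h2 : Finset.univ.filter (fun g : G => g * g = 1) =
      insert 1 (Finset.univ.filter (fun g : G => g ≠ 1 ∧ g * g = 1)) := by
    ext g
    simp only [Finset.mem_filter, Finset.mem_univ, true_and, Finset.mem_insert]
    constructor
    · intro h
      by_cases hg : g = 1
      · left; exact hg
      · right; exact ⟨hg, h⟩
    · rintro (h | h)
      · rw [h, one_mul]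
      · exact h.2
  have h3 : (1 : G) ∉ Finset.univ.filter (fun g : G => g ≠ 1 ∧ g * g = 1) := by
    simp
  rw [h2, Finset.sum_insert h3] at h1
  rw [← h1]

theorem fixCnt : StFixCnt.{u} := by
  intro G _ _ fix m hm hS1 hS2 hfix1 hfixI hfixX hI hG
  classical
  have hq3 : 3 ≤ qq m := by
    unfold qq
    calc 3 = 3 ^ 1 := by norm_num
      _ ≤ 3 ^ (2 * m + 1) := Nat.pow_le_pow_right (by norm_num) (by omega)
  -- the sums over the involutions
  have hIcard : (Finset.univ.filter (fun g : G => g ≠ 1 ∧ g * g = 1)).card = qq m ^ 2 * MM m := by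
    rw [← hI, ← Set.ncard_coe_finset]
    congr 1
    ext g
    simp [InvSet]
  have hsumI1 : ∑ g ∈ Finset.univ.filter (fun g : G => g ≠ 1 ∧ g * g = 1), fix g =
      (Finset.univ.filter (fun g : G => g ≠ 1 ∧ g * g = 1)).card * (qq m + 1) := by
    apply Finset.sum_const_nat
    intro g hg
    rw [Finset.mem_filter] at hg
    exact hfixI g hg.2.1 hg.2.2
  have hsumI2 : ∑ g ∈ Finset.univ.filter (fun g : G => g ≠ 1 ∧ g * g = 1), fix g ^ 2 =
      (Finset.univ.filter (fun g : G => g ≠ 1 ∧ g * g = 1)).card * (qq m + 1) ^ 2 := by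
    apply Finset.sum_const_nat
    intro g hg
    rw [Finset.mem_filter] at hg
    rw [hfixI g hg.2.1 hg.2.2]
  have hsumI0 : ∑ g ∈ Finset.univ.filter (fun g : G => g ≠ 1 ∧ g * g = 1), 1 =
      (Finset.univ.filter (fun g : G => g ≠ 1 ∧ g * g = 1)).card := by
    simp
  have e1 := sum_split fix
  have e2 := sum_split (fun g => fix g ^ 2)
  have e3 := sum_split (fun _ : G => 1)
  rw [hS1, hfix1, hsumI1, hIcard] at e1
  rw [hS2, hfix1, hsumI2, hIcard] at e2
  rw [hsumI0, hIcard] at e3
  have e3' : Fintype.card G = 1 + qq m ^ 2 * MM m +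
      (Finset.univ.filter (fun g : G => g * g ≠ 1)).card := by
    have : ∑ _g : G, 1 = Fintype.card G := by simp
    rw [this] at e3
    rw [e3]
    simp
  -- the fixed-point-free elements lie in the third part
  have hn0 : Nat.card {g : G // fix g = 0} =
      ((Finset.univ.filter (fun g : G => g * g ≠ 1)).filter (fun g => fix g = 0)).card := by
    rw [Nat.card_eq_fintype_card, Fintype.card_subtype]
    congr 1
    ext g
    simp only [Finset.mem_filter, Finset.mem_univ, true_and]
    constructor
    · intro h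
      refine ⟨?_, h⟩
      intro hgg
      by_cases hg1 : g = 1
      · rw [hg1, hfix1] at h
        omega
      · rw [hfixI g hg1 hgg] at h
        omega
    · intro h
      exact h.2
  have e4 : 2 * ((Finset.univ.filter (fun g : G => g * g ≠ 1)).filter (fun g => fix g = 0)).card +
      3 * ∑ g ∈ Finset.univ.filter (fun g : G => g * g ≠ 1), fix g =
      ∑ g ∈ Finset.univ.filter (fun g : G => g * g ≠ 1), fix g ^ 2 +
        2 * (Finset.univ.filter (fun g : G => g * g ≠ 1)).card := by
    rw [Finset.card_filter, Finset.card_eq_sum_ones, Finset.mul_sum, Finset.mul_sum, Finset.mul_sum,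
      ← Finset.sum_add_distrib, ← Finset.sum_add_distrib]
    apply Finset.sum_congr rfl
    intro g hg
    rw [Finset.mem_filter] at hg
    have h := hfixX g hg.2
    interval_cases (fix g) <;> simp
  rw [hn0]
  -- arithmetic
  have hGG : Fintype.card G = qq m ^ 3 * (qq m - 1) * (qq m ^ 3 + 1) := hG
  have hMM : MM m = qq m ^ 2 - qq m + 1 := rfl
  have hq1 : 1 ≤ qq m := by omega
  have hq2 : qq m ≤ qq m ^ 2 := by nlinarith
  have hq4 : 2 * qq m ^ 2 + 1 ≤ qq m ^ 3 := by nlinarith
  have hq5 : 2 * qq m ^ 2 ≤ qq m ^ 3 := by omega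
  have hq6 : 1 ≤ qq m ^ 3 - 2 * qq m ^ 2 := by omega
  rw [hGG] at e1 e2 e3'
  rw [hMM] at e1 e2 e3'
  zify [hq1, hq2, hq4, hq5, hq6] at e1 e2 e3' e4 ⊢
  linear_combination e4 + 3 * e1 - e2 - 2 * e3'

end Cfsg.Agent.H9.S8
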