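import Mathlib
import Cfsg.Agent.H45.S8Defs0

/-!
helper9: piece INVCNT of S1158 (helper45's team project).
-/

set_option autoImplicit false

namespace Cfsg.Agent.H9.S8

open Cfsg.Agent.H45.S8

universe u

theorem invCnt : StInvCnt.{u} := by
  intro G _ _ a ha1 ha2 hconj
  have hmemC : ∀ g : G, g ∈ Subgroup.centralizer ({a} : Set G) ↔ g * a = a * g := fun g =>
    Subgroup.mem_centralizer_singleton_iff
  have hinv : ∀ c : G, c * a * c⁻¹ ∈ InvSet G := by
    intro c
    refine ⟨?_, ?_⟩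
    · intro h
      apply ha1
      calc a = c⁻¹ * (c * a * c⁻¹) * c := by group
        _ = 1 := by rw [h]; group
    · calc c * a * c⁻¹ * (c * a * c⁻¹) = c * (a * a) * c⁻¹ := by group
        _ = 1 := by rw [ha2]; group
  have hwd : ∀ c₁ c₂ : G, QuotientGroup.leftRel (Subgroup.centralizer ({a} : Set G)) c₁ c₂ →
      (⟨c₁ * a * c₁⁻¹, hinv c₁⟩ : ↥(InvSet G)) = ⟨c₂ * a * c₂⁻¹, hinv c₂⟩ := by
    intro c₁ c₂ h
    rw [QuotientGroup.leftRel_apply] at h
    have h2 := (hmemC _).1 h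
    apply Subtype.ext
    show c₁ * a * c₁⁻¹ = c₂ * a * c₂⁻¹
    calc c₁ * a * c₁⁻¹ = c₁ * (a * (c₁⁻¹ * c₂)) * c₂⁻¹ := by group
      _ = c₁ * (c₁⁻¹ * c₂ * a) * c₂⁻¹ := by rw [h2]
      _ = c₂ * a * c₂⁻¹ := by group
  have hbij : Function.Bijective (fun q : G ⧸ Subgroup.centralizer ({a} : Set G) =>
      Quotient.liftOn' q (fun c => (⟨c * a * c⁻¹, hinv c⟩ : ↥(InvSet G))) hwd) := by
    constructor
    · intro q₁ q₂
      induction q₁ using QuotientGroup.induction_on with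
      | H c₁ =>
        induction q₂ using QuotientGroup.induction_on with
        | H c₂ =>
          intro h
          have h' : c₁ * a * c₁⁻¹ = c₂ * a * c₂⁻¹ := congrArg Subtype.val h
          apply QuotientGroup.eq.2
          rw [hmemC]
          calc c₁⁻¹ * c₂ * a = c₁⁻¹ * (c₂ * a * c₂⁻¹) * c₂ := by group
            _ = c₁⁻¹ * (c₁ * a * c₁⁻¹) * c₂ := by rw [h']
            _ = a * (c₁⁻¹ * c₂) := by group
    · rintro ⟨z, hz1, hz2⟩
      obtain ⟨c, hc⟩ := hconj z hz1 hz2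
      exact ⟨QuotientGroup.mk c, Subtype.ext hc⟩
  have hcard : Nat.card ↥(InvSet G) = (Subgroup.centralizer ({a} : Set G)).index := by
    rw [Subgroup.index, ← Nat.card_eq_of_bijective _ hbij]
  rw [← Nat.card_coe_set_eq, hcard]
  exact Subgroup.index_mul_card _

end Cfsg.Agent.H9.S8
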