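import Cfsg.Agent.H9.M24c
import Cfsg.Agent.H34.Bits
import Cfsg.Agent.H8.Steiner

/-!
# A kernel-verified exhaustive search for Steiner systems `S(t, t+1, v)` (helper9)

Blocks and `t`-sets are bit masks (helper34's `ofMask` / `toMask` for a numbering `e : α ≃ Fin v`).
`srch` runs through the `t`-sets in a fixed order; for the first one not yet covered it tries the
blocks through it that are compatible with the blocks chosen so far.  Symmetry is broken by a
partition of the labels into cells (intervals; `nb` is the mask of the `i` such that `i` and `i+1`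
lie in the same cell): all chosen blocks are unions of cells, so the labels of a cell may still be
permuted, and only blocks meeting every cell in a top segment are tried.  At a leaf (all `t`-sets
covered; this is checked by counting the blocks) the search consumes a certificate: a packed
relabelling carrying the chosen blocks into the standard system `B0` (a bitmap).
-/

set_option autoImplicit false

namespace Cfsg.Agent.H9.Stc

open Cfsg Cfsg.Agent.H9 Cfsg.Agent.H34

/-! ## bit operations -/

/-- toggle bit `i` -/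
def tog (b i : ℕ) : ℕ := Nat.xor b (Nat.shiftLeft 1 i)

theorem tog_eq (b i : ℕ) : tog b i = b ^^^ 2 ^ i := by
  unfold tog
  show b ^^^ (1 <<< i) = _
  rw [Nat.one_shiftLeft]

theorem shl_one (x : ℕ) : Nat.shiftLeft 1 x = 2 ^ x := by
  show 1 <<< x = _
  rw [Nat.one_shiftLeft]

theorem tb_lor_shift (cov m s : ℕ) :
    tb (Nat.lor cov (Nat.shiftLeft 1 m)) s = true ↔ tb cov s = true ∨ s = m := by
  rw [tb_eq, tb_eq]
  show (cov ||| 1 <<< m).testBit s = true ↔ _
  rw [Nat.one_shiftLeft, Nat.testBit_or, Nat.testBit_two_pow, Bool.or_eq_true, decide_eq_true_eq]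
  constructor
  · rintro (h | h)
    · exact Or.inl h
    · exact Or.inr h.symm
  · rintro (h | h)
    · exact Or.inl h
    · exact Or.inr h.symm

/-- adding a power of two whose bit is clear is the same as setting the bit -/
theorem add_two_pow_eq_or (u x : ℕ) (h : u.testBit x = false) : u + 2 ^ x = u ||| 2 ^ x := by
  have h1 : u / 2 ^ x % 2 = 0 := by
    rw [Nat.testBit_eq_decide_div_mod_eq] at h
    have := of_decide_eq_false h
    omega
  obtain ⟨q, hq⟩ : ∃ q, u / 2 ^ x = 2 * q := ⟨u / 2 ^ x / 2, by omega⟩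
  have hr : u % 2 ^ x < 2 ^ x := Nat.mod_lt _ (Nat.two_pow_pos x)
  have hu : u = 2 ^ (x + 1) * q + u % 2 ^ x := by
    have := Nat.div_add_mod u (2 ^ x)
    rw [hq] at this
    rw [pow_succ]
    nlinarith [this]
  have hr' : u % 2 ^ x < 2 ^ (x + 1) := lt_of_lt_of_le hr (Nat.pow_le_pow_right (by norm_num) (by omega))
  have h2 : u = 2 ^ (x + 1) * q ||| u % 2 ^ x := by
    rw [← Nat.two_pow_add_eq_or_of_lt hr' q]
    exact hu
  have h3 : u % 2 ^ x + 2 ^ x < 2 ^ (x + 1) := by
    rw [pow_succ]; omega
  have h4 : u + 2 ^ x = 2 ^ (x + 1) * q ||| (u % 2 ^ x + 2 ^ x) := by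
    rw [← Nat.two_pow_add_eq_or_of_lt h3 q]
    omega
  rw [h4, ← Nat.or_two_pow_eq_add_of_lt hr, ← Nat.or_assoc, ← h2]

theorem or_pow_xor_self (s x : ℕ) (h : s.testBit x = false) : (s ||| 2 ^ x) ^^^ 2 ^ x = s := by
  apply Nat.eq_of_testBit_eq
  intro j
  rw [Nat.testBit_xor, Nat.testBit_or, Nat.testBit_two_pow]
  by_cases hj : x = j
  · subst hj
    simp [h]
  · simp [hj]

theorem or_pow_xor_ne (s x i : ℕ) (h : i ≠ x) :
    (s ||| 2 ^ x) ^^^ 2 ^ i = (s ^^^ 2 ^ i) ||| 2 ^ x := by
  apply Nat.eq_of_testBit_eq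
  intro j
  rw [Nat.testBit_xor, Nat.testBit_or, Nat.testBit_or, Nat.testBit_xor, Nat.testBit_two_pow,
    Nat.testBit_two_pow]
  by_cases hj : x = j
  · subst hj
    have : ¬ i = x := h
    simp [this]
  · simp [hj]

/-! ## cells -/

/-- the block `b` meets every cell in a top segment -/
def okCell (b nb : ℕ) : Bool :=
  Nat.beq (Nat.land (Nat.land b nb) (Nat.shiftRight b 1)) (Nat.land b nb)

theorem okCell_iff (b nb : ℕ) : okCell b nb = true ↔
    ∀ i, b.testBit i = true → nb.testBit i = true → b.testBit (i + 1) = true := by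
  unfold okCell
  show Nat.beq ((b &&& nb) &&& (b >>> 1)) (b &&& nb) = true ↔ _
  constructor
  · intro h i hb hn
    have h1 := Nat.eq_of_beq_eq_true h
    have h2 := congrArg (fun z => z.testBit i) h1
    simp only [Nat.testBit_and, Nat.testBit_shiftRight, hb, hn, Bool.and_self, Bool.true_and] at h2
    rw [Nat.add_comm] at h2
    exact h2
  · intro h
    have : (b &&& nb) &&& (b >>> 1) = b &&& nb := by
      apply Nat.eq_of_testBit_eq
      intro i
      simp only [Nat.testBit_and, Nat.testBit_shiftRight]
      cases hb : b.testBit i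
      · simp
      · cases hn : nb.testBit i
        · simp
        · have := h i hb hn
          rw [Nat.add_comm] at this
          simp [this]
    rw [this]
    exact Nat.beq_refl _

/-- refine the cells by the block `b` -/
def splitC (nb b : ℕ) : ℕ := Nat.xor nb (Nat.land nb (Nat.xor b (Nat.shiftRight b 1)))

theorem testBit_splitC (nb b i : ℕ) : (splitC nb b).testBit i = true ↔
    nb.testBit i = true ∧ b.testBit i = b.testBit (i + 1) := by
  unfold splitC
  show (nb ^^^ (nb &&& (b ^^^ (b >>> 1)))).testBit i = true ↔ _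
  rw [Nat.testBit_xor, Nat.testBit_and, Nat.testBit_xor, Nat.testBit_shiftRight, Nat.add_comm 1 i]
  cases nb.testBit i <;> cases b.testBit i <;> cases b.testBit (i + 1) <;> simp

/-! ## coverage

The kernel hashes a big literal by its low 32 bits, so the coverage maps keep their payload in
the bits `≥ 32` and a scrambled tag in the bits below. -/

/-- union of the coverage map shifted by the `u ∈ us` -/
def fmask (cov : ℕ) : List ℕ → ℕ
  | [] => 0
  | u :: us => Nat.lor (Nat.shiftRight cov u) (fmask cov us)

theorem testBit_fmask (cov : ℕ) (us : List ℕ) (j : ℕ) (h : (fmask cov us).testBit j = true) :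
    ∃ u ∈ us, cov.testBit (u + j) = true := by
  induction us with
  | nil => simp [fmask] at h
  | cons u us ih =>
    rw [fmask] at h
    change ((cov >>> u) ||| fmask cov us).testBit j = true at h
    rw [Nat.testBit_or, Bool.or_eq_true, Nat.testBit_shiftRight] at h
    rcases h with h | h
    · exact ⟨u, List.mem_cons_self .., h⟩
    · obtain ⟨u', hu', h'⟩ := ih h
      exact ⟨u', List.mem_cons_of_mem _ hu', h'⟩

theorem testBit_low32 (a j : ℕ) : (a &&& 4294967295).testBit (j + 32) = false := by
  rw [Nat.testBit_and, show (4294967295 : ℕ) = 2 ^ 32 - 1 by norm_num, Nat.testBit_two_pow_sub_one]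
  simp

/-- `fmask` with the low 32 bits scrambled -/
def fmaskT (cov : ℕ) (us : List ℕ) : ℕ := Nat.xor (fmask cov us) (Nat.land cov 4294967295)

theorem testBit_fmaskT (cov : ℕ) (us : List ℕ) (j : ℕ)
    (h : (fmaskT cov us).testBit (j + 32) = true) : ∃ u ∈ us, cov.testBit (u + (j + 32)) = true := by
  unfold fmaskT at h
  change (fmask cov us ^^^ (cov &&& 4294967295)).testBit (j + 32) = true at h
  rw [Nat.testBit_xor, testBit_low32, Bool.xor_false] at h
  exact testBit_fmask cov us _ h

/-- mark the sets `u ∪ {x}`, `u ∈ us`, as covered (`xb = 2 ^ x`) -/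
def cadd (xb : ℕ) : List ℕ → ℕ → ℕ
  | [], cov => cov
  | u :: us, cov => cadd xb us (Nat.lor cov (Nat.shiftLeft 1 (Nat.add (Nat.lor u xb) 32)))

theorem tb_cadd (xb : ℕ) (us : List ℕ) (cov w : ℕ) :
    tb (cadd xb us cov) w = true ↔ tb cov w = true ∨ ∃ u ∈ us, w = (u ||| xb) + 32 := by
  induction us generalizing cov with
  | nil => simp [cadd]
  | cons u us ih =>
    rw [cadd, ih, tb_lor_shift]
    constructor
    · rintro ((h | h) | ⟨u', hu', h⟩)
      · exact Or.inl h
      · exact Or.inr ⟨u, List.mem_cons_self .., h⟩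
      · exact Or.inr ⟨u', List.mem_cons_of_mem _ hu', h⟩
    · rintro (h | ⟨u', hu', h⟩)
      · exact Or.inl (Or.inl h)
      · rcases List.mem_cons.mp hu' with rfl | h1
        · exact Or.inl (Or.inr h)
        · exact Or.inr ⟨u', h1, h⟩

/-- the coverage after adding the block `s ∪ {x}` (`xb = 2 ^ x`), with a new tag -/
def covNext (cov s xb : ℕ) (us : List ℕ) : ℕ :=
  Nat.xor (cadd xb us (Nat.lor cov (Nat.shiftLeft 1 (Nat.add s 32))))
    (Nat.land (Nat.mul (Nat.lor s xb) 2654435761) 4294967295)

theorem testBit_covNext (cov s xb : ℕ) (us : List ℕ) (w : ℕ) :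
    (covNext cov s xb us).testBit (w + 32) = true ↔
      cov.testBit (w + 32) = true ∨ w = s ∨ ∃ u ∈ us, w = u ||| xb := by
  unfold covNext
  change (cadd xb us (Nat.lor cov (Nat.shiftLeft 1 (Nat.add s 32))) ^^^
    (Nat.mul (Nat.lor s xb) 2654435761 &&& 4294967295)).testBit (w + 32) = true ↔ _
  rw [Nat.testBit_xor, testBit_low32, Bool.xor_false, ← tb_eq, tb_cadd, tb_lor_shift, tb_eq]
  constructor
  · rintro ((h | h) | ⟨u, hu, h⟩)
    · exact Or.inl h
    · exact Or.inr (Or.inl (Nat.add_right_cancel h))
    · exact Or.inr (Or.inr ⟨u, hu, Nat.add_right_cancel h⟩)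
  · rintro (h | h | ⟨u, hu, h⟩)
    · exact Or.inl (Or.inl h)
    · exact Or.inl (Or.inr (by rw [h]))
    · exact Or.inr ⟨u, hu, by rw [h]⟩

/-! ## relabellings -/

/-- image of a mask under a packed map of `0..v-1` -/
def imgV : ℕ → ℕ → ℕ → ℕ
  | 0, _, _ => 0
  | i + 1, c, m => Nat.lor (cond (tb m i) (Nat.shiftLeft 1 (lk c i)) 0) (imgV i c m)

theorem testBit_imgV (v c m j : ℕ) :
    (imgV v c m).testBit j = true ↔ ∃ i < v, m.testBit i = true ∧ lk c i = j := by
  induction v with
  | zero => simp [imgV]
  | succ n ih =>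
    rw [imgV]
    show ((cond (tb m n) (1 <<< lk c n) 0) ||| imgV n c m).testBit j = true ↔ _
    rw [Nat.testBit_or, Bool.or_eq_true, ih, tb_eq]
    cases hb : m.testBit n
    · simp only [cond_false, Nat.zero_testBit, Bool.false_eq_true, false_or]
      constructor
      · rintro ⟨i, hi, h⟩
        exact ⟨i, Nat.lt_succ_of_lt hi, h⟩
      · rintro ⟨i, hi, h1, h2⟩
        rcases Nat.lt_succ_iff_lt_or_eq.mp hi with h3 | rfl
        · exact ⟨i, h3, h1, h2⟩
        · rw [hb] at h1
          exact absurd h1 (by simp)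
    · simp only [cond_true, Nat.one_shiftLeft, Nat.testBit_two_pow, decide_eq_true_eq]
      constructor
      · rintro (h | ⟨i, hi, h⟩)
        · exact ⟨n, Nat.lt_succ_self n, hb, h⟩
        · exact ⟨i, Nat.lt_succ_of_lt hi, h⟩
      · rintro ⟨i, hi, h1, h2⟩
        rcases Nat.lt_succ_iff_lt_or_eq.mp hi with h3 | rfl
        · exact Or.inr ⟨i, h3, h1, h2⟩
        · exact Or.inl h2

/-- the packed map is a permutation of `0..v-1` -/
def permOK (v c : ℕ) : Bool :=
  allB (fun i => Nat.blt (lk c i) v) v &&
    Nat.beq (imgV v c (Nat.sub (Nat.shiftLeft 1 v) 1)) (Nat.sub (Nat.shiftLeft 1 v) 1)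

/-- the packed map fixes the top `k` points -/
def fixOK (v k c : ℕ) : Bool :=
  allB (fun i => Nat.beq (lk c (Nat.add (Nat.sub v k) i)) (Nat.add (Nat.sub v k) i)) k

/-- leaf check: there are `N` chosen blocks and the relabelling `c` carries them into `B0` -/
def leafOK (v k B0 N c : ℕ) (bl : List ℕ) : Bool :=
  permOK v c && (fixOK v k c && (Nat.beq bl.length N && bl.all (fun b => tb B0 (imgV v c b))))

/-- force the evaluation of a natural number (for the kernel) -/
def frc {β : Type} (x : ℕ) (f : ℕ → β) : β :=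
  match x with
  | 0 => f 0
  | n + 1 => f (Nat.succ n)

theorem frc_eq {β : Type} (x : ℕ) (f : ℕ → β) : frc x f = f x := by
  cases x <;> rfl

/-! ## the search -/

/-- try the block `s ∪ {x}` -/
def kidStep (rec : ℕ → List ℕ → ℕ → List ℕ → Option (List ℕ)) (s : ℕ) (us : List ℕ) (cov : ℕ)
    (bl : List ℕ) (nb F x : ℕ) (acc : Option (List ℕ)) : Option (List ℕ) :=
  match acc with
  | none => none
  | some certs =>
      cond (tb s x || tb F (Nat.add (Nat.shiftLeft 1 x) 32)) (some certs)
        (frc (Nat.lor s (Nat.shiftLeft 1 x)) (fun b =>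
          cond (okCell b nb)
            (frc (covNext cov s (Nat.shiftLeft 1 x) us) (fun cov' =>
              frc (splitC nb b) (fun nb' => rec cov' (b :: bl) nb' certs)))
            (some certs)))

/-- try the blocks `s ∪ {x}`, `x < n` (largest `x` first) -/
def kids (rec : ℕ → List ℕ → ℕ → List ℕ → Option (List ℕ)) (s : ℕ) (us : List ℕ) (cov : ℕ)
    (bl : List ℕ) (nb F : ℕ) : ℕ → Option (List ℕ) → Option (List ℕ)
  | 0, acc => acc
  | x + 1, acc => kids rec s us cov bl nb F x (kidStep rec s us cov bl nb F x acc)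

/-- the search -/
def srch (v k0 B0 N : ℕ) : List (ℕ × List ℕ) → ℕ → List ℕ → ℕ → List ℕ → Option (List ℕ)
  | [], _, bl, _, certs =>
      match certs with
      | [] => none
      | c :: cs => cond (leafOK v k0 B0 N c bl) (some cs) none
  | p :: rest, cov, bl, nb, certs =>
      cond (tb cov (Nat.add p.1 32)) (srch v k0 B0 N rest cov bl nb certs)
        (cond (okCell p.1 nb)
          (frc (fmaskT cov p.2) (fun F =>
            kids (fun cov' bl' nb' certs' => srch v k0 B0 N rest cov' bl' nb' certs') p.1 p.2 cov bl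
              nb F v (some certs)))
          none)

theorem kids_none (rec : ℕ → List ℕ → ℕ → List ℕ → Option (List ℕ)) (s : ℕ) (us : List ℕ)
    (cov : ℕ) (bl : List ℕ) (nb F : ℕ) : ∀ n : ℕ, kids rec s us cov bl nb F n none = none := by
  intro n
  induction n with
  | zero => rfl
  | succ n ih =>
    rw [kids]
    exact ih

theorem kids_some (rec : ℕ → List ℕ → ℕ → List ℕ → Option (List ℕ)) (s : ℕ) (us : List ℕ)
    (cov : ℕ) (bl : List ℕ) (nb F : ℕ) : ∀ (n : ℕ) (acc : Option (List ℕ)) (certs' : List ℕ),
      kids rec s us cov bl nb F n acc = some certs' → ∀ x, x < n → tb s x = false →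
      tb F (Nat.add (Nat.shiftLeft 1 x) 32) = false → okCell (Nat.lor s (Nat.shiftLeft 1 x)) nb = true →
      ∃ c1 c2, rec (covNext cov s (Nat.shiftLeft 1 x) us)
        (Nat.lor s (Nat.shiftLeft 1 x) :: bl) (splitC nb (Nat.lor s (Nat.shiftLeft 1 x))) c1
          = some c2 := by
  intro n
  induction n with
  | zero =>
    intro _ _ _ x hx
    exact absurd hx (Nat.not_lt_zero _)
  | succ n ih =>
    intro acc certs' h x hx h1 h2 h3
    rw [kids] at h
    rcases Nat.lt_succ_iff_lt_or_eq.mp hx with hx' | rfl
    · exact ih _ certs' h x hx' h1 h2 h3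
    · cases hk : kidStep rec s us cov bl nb F x acc with
      | none =>
        rw [hk, kids_none] at h
        exact absurd h (by simp)
      | some c2 =>
        cases acc with
        | none =>
          exact absurd hk (by simp [kidStep])
        | some c1 =>
          have hc : (tb s x || tb F (Nat.add (Nat.shiftLeft 1 x) 32)) = false := by
            rw [h1, h2]
            rfl
          simp only [kidStep, hc, cond_false, frc_eq, h3, cond_true] at hk
          exact ⟨c1, c2, hk⟩

end Cfsg.Agent.H9.Stc
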