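import Cfsg.Agent.H9.StcFin

/-!
# Automorphisms of a Steiner system `S(t, t+1, v)` with pointed uniqueness (helper9)

The automorphism group is `t`-transitive; if the standard system has no nontrivial automorphism
fixing the top `t` labels (a kernel check over the permutations of the other labels), it is
sharply `t`-transitive.
-/

set_option autoImplicit false
set_option linter.unusedSectionVars false

namespace Cfsg.Agent.H9.Stc

open Cfsg Cfsg.Agent.H9 Cfsg.Agent.H34
open scoped Pointwise

/-- kernel check: no nontrivial permutation of the labels `< nf` preserves the system -/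
def noAutChk (v nf B0 : ℕ) (B0L tail : List ℕ) : Bool :=
  (List.permutations' (List.range nf)).all (fun p =>
    eqL p (List.range nf) || !(B0L.all (fun m => tb B0 (imgV v (packL (p ++ tail)) m))))

theorem noAut_sound {v nf B0 : ℕ} {B0L tail : List ℕ} (hchk : noAutChk v nf B0 B0L tail = true)
    (htail : tail = List.range' nf (v - nf)) (hnf : nf ≤ v) (hv : v ≤ 32)
    (hB0 : B0 = bitmapOf B0L) (h : Equiv.Perm (Fin v))
    (hfix : ∀ j : Fin v, nf ≤ j.val → h j = j)
    (hpres : ∀ m ∈ B0L, toMask h (ofMask (Equiv.refl (Fin v)) m) ∈ B0L) : h = 1 := by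
  classical
  let hN : ℕ → ℕ := fun i => if hi : i < v then (h ⟨i, hi⟩).val else i
  have hN_lt : ∀ i (hi : i < v), hN i = (h ⟨i, hi⟩).val := fun i hi => by simp [hN, hi]
  have hp_perm : ((List.range nf).map hN).Perm (List.range nf) := by
    rw [List.perm_ext_iff_of_nodup]
    · intro a
      rw [List.mem_map, List.mem_range]
      constructor
      · rintro ⟨i, hi, rfl⟩
        rw [List.mem_range] at hi
        have hiv : i < v := lt_of_lt_of_le hi hnf
        rw [hN_lt i hiv]
        by_contra hge
        have h1 := hfix (h ⟨i, hiv⟩) (not_lt.mp hge)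
        have h2 := h.injective h1
        have := congrArg Fin.val h2
        simp only at this
        omega
      · intro ha
        have hav : a < v := lt_of_lt_of_le ha hnf
        refine ⟨(h.symm ⟨a, hav⟩).val, ?_, ?_⟩
        · rw [List.mem_range]
          by_contra hge
          have h1 := hfix (h.symm ⟨a, hav⟩) (not_lt.mp hge)
          rw [Equiv.apply_symm_apply] at h1
          have := congrArg Fin.val h1
          simp only at this
          omega
        · rw [hN_lt _ (h.symm ⟨a, hav⟩).isLt]
          simp
    · apply List.Nodup.map_on _ List.nodup_range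
      intro a ha b hb hab
      rw [List.mem_range] at ha hb
      rw [hN_lt a (lt_of_lt_of_le ha hnf), hN_lt b (lt_of_lt_of_le hb hnf)] at hab
      have := h.injective (Fin.ext hab)
      exact congrArg Fin.val this
    · exact List.nodup_range
  have hp_mem : (List.range nf).map hN ∈ List.permutations' (List.range nf) :=
    List.mem_permutations'.mpr hp_perm
  have hc := List.all_eq_true.mp hchk _ hp_mem
  rw [Bool.or_eq_true] at hc
  rcases hc with h1 | h2
  · have hpe := eqL_eq _ _ h1
    apply Equiv.ext
    intro j
    apply Fin.ext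
    by_cases hj : j.val < nf
    · have h3 : ((List.range nf).map hN)[j.val]'(by simp [hj]) = hN j.val := by simp
      have h4 : ((List.range nf).map hN)[j.val]'(by simp [hj]) = j.val := by
        simp only [hpe]
        simp
      rw [h3, hN_lt j.val j.isLt] at h4
      exact h4
    · exact congrArg Fin.val (hfix j (not_lt.mp hj))
  · exfalso
    have hlen : ((List.range nf).map hN ++ tail).length = v := by
      rw [List.length_append, List.length_map, List.length_range, htail, List.length_range']
      omega
    have hget : ∀ i (hi : i < v), ((List.range nf).map hN ++ tail)[i]'(by rw [hlen]; exact hi)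
        = (h ⟨i, hi⟩).val := by
      intro i hi
      by_cases h1 : i < nf
      · rw [List.getElem_append_left (by simp [h1])]
        simp [hN_lt i hi]
      · rw [List.getElem_append_right (by simp; omega)]
        simp only [htail, List.length_map, List.length_range, List.getElem_range']
        have := congrArg Fin.val (hfix ⟨i, hi⟩ (not_lt.mp h1))
        simp only at this
        omega
    have hc : ∀ i (hi : i < v), lk (packL ((List.range nf).map hN ++ tail)) i
        = (h ⟨i, hi⟩).val := by
      intro i hi
      rw [lk_packL _ _ i (by rw [hlen]; exact hi), hget i hi]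
      intro e he
      obtain ⟨n, hn, rfl⟩ := List.getElem_of_mem he
      rw [hlen] at hn
      rw [hget n hn]
      have := (h ⟨n, hn⟩).isLt
      omega
    have himg : ∀ m, imgV v (packL ((List.range nf).map hN ++ tail)) m
        = toMask h (ofMask (Equiv.refl (Fin v)) m) := by
      intro m
      apply Nat.eq_of_testBit_eq
      intro j
      apply Bool.eq_iff_iff.mpr
      rw [testBit_imgV, testBit_toMask']
      constructor
      · rintro ⟨i, hi, hmi, hij⟩
        refine ⟨⟨i, hi⟩, ?_, ?_⟩
        · rw [mem_ofMask]
          exact hmi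
        · rw [← hc i hi]
          exact hij
      · rintro ⟨a, ha, haj⟩
        rw [mem_ofMask] at ha
        exact ⟨a.val, a.isLt, ha, by rw [hc a.val a.isLt]; exact haj⟩
    have hall : B0L.all (fun m => tb B0 (imgV v (packL ((List.range nf).map hN ++ tail)) m))
        = true := by
      rw [List.all_eq_true]
      intro m hm
      rw [himg, hB0, tb_bitmapOf]
      exact hpres m hm
    rw [hall] at h2
    exact absurd h2 (by simp)

section
variable {α : Type*} [Fintype α] [DecidableEq α] {v t : ℕ}

theorem smul_finset_eq_image (g : Equiv.Perm α) (b : Finset α) : g • b = b.image g := by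
  ext a
  simp [Finset.mem_smul_finset]

/-- a permutation carrying one standard numbering to another is an automorphism -/
theorem mem_aut_of_std {B : Set (Finset α)} {B0L : List ℕ} (e e2 : α ≃ Fin v)
    (h1 : ∀ b : Finset α, b ∈ B ↔ toMask e b ∈ B0L)
    (h2 : ∀ b : Finset α, b ∈ B ↔ toMask e2 b ∈ B0L) :
    e.trans e2.symm ∈ setSystemAut B := by
  rw [MulAction.mem_stabilizer_iff]
  have h3 := iso_of_std e e2 h1 h2
  rw [← Set.image_smul]
  conv_rhs => rw [← h3]
  apply Set.image_congr
  intro b _
  exact smul_finset_eq_image _ b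

/-- `t`-transitivity of the automorphism group -/
theorem aut_transitive (hα : Fintype.card α = v) {b0 : ℕ} {B0L : List ℕ} {B : Set (Finset α)}
    (hB : IsSteinerSystem t (t + 1) B)
    (hb0 : ∀ j < v, b0.testBit j = true ↔ v ≤ j + (t + 1))
    (hP : ∀ e : α ≃ Fin v, ofMask e b0 ∈ B →
      ∃ e' : α ≃ Fin v, agree (t + 1) e e' ∧ ∀ b : Finset α, b ∈ B ↔ toMask e' b ∈ B0L) :
    MulAction.IsMultiplyPretransitive (setSystemAut B) α t := by
  rw [MulAction.isMultiplyPretransitive_iff]
  intro x y
  obtain ⟨f, hf, hfB, hfx⟩ := exists_block_tuple hB x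
  obtain ⟨f', hf', hfB', hfy⟩ := exists_block_tuple hB y
  obtain ⟨e, hef, he⟩ := exists_std hα hb0 hP f hf hfB
  obtain ⟨e2, hef', he2⟩ := exists_std hα hb0 hP f' hf' hfB'
  refine ⟨⟨e.trans e2.symm, mem_aut_of_std e e2 he he2⟩, Function.Embedding.ext fun i => ?_⟩
  show e2.symm (e (x i)) = y i
  rw [Equiv.symm_apply_eq]
  apply Fin.ext
  rw [← hfx i, ← hfy i, hef, hef']

/-- an automorphism fixing `t` points is trivial -/
theorem aut_sharp (hα : Fintype.card α = v) {b0 : ℕ} {B0L : List ℕ} {B : Set (Finset α)}
    (hB : IsSteinerSystem t (t + 1) B)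
    (hb0 : ∀ j < v, b0.testBit j = true ↔ v ≤ j + (t + 1))
    (hP : ∀ e : α ≃ Fin v, ofMask e b0 ∈ B →
      ∃ e' : α ≃ Fin v, agree (t + 1) e e' ∧ ∀ b : Finset α, b ∈ B ↔ toMask e' b ∈ B0L)
    (hnoaut : ∀ h : Equiv.Perm (Fin v), (∀ j : Fin v, v - t ≤ j.val → h j = j) →
      (∀ m ∈ B0L, toMask h (ofMask (Equiv.refl (Fin v)) m) ∈ B0L) → h = 1)
    (hlt : ∀ m ∈ B0L, m < 2 ^ v) (x : Fin t ↪ α) :
    MulAction.stabilizer (setSystemAut B) x = ⊥ := by
  rw [Subgroup.eq_bot_iff_forall]
  intro g hg
  rw [MulAction.mem_stabilizer_iff] at hg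
  have hgx : ∀ i, (g : Equiv.Perm α) (x i) = x i := fun i => by
    have := DFunLike.congr_fun hg i
    exact this
  obtain ⟨f, hf, hfB, hfx⟩ := exists_block_tuple hB x
  obtain ⟨e, hef, he⟩ := exists_std hα hb0 hP f hf hfB
  have hk : t + 1 ≤ v := by
    have := Fintype.card_le_of_injective f hf
    rwa [Fintype.card_fin, hα] at this
  have hex : ∀ i : Fin t, (e (x i)).val = v - t + i.val := fun i => by
    rw [← hfx i, hef]
    simp only [Fin.val_succ]
    omega
  have hgB' : ∀ σ : Equiv.Perm α, σ • B = B → ∀ b ∈ B, b.image σ ∈ B := by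
    intro σ hσ b hb
    rw [← smul_finset_eq_image]
    have h4 : σ • b ∈ σ • B := Set.smul_mem_smul_set hb
    rw [hσ] at h4
    exact h4
  have hgB : ∀ b ∈ B, b.image (g : Equiv.Perm α) ∈ B :=
    hgB' _ (MulAction.mem_stabilizer_iff.mp g.2)
  have h1 : e.symm.trans ((g : Equiv.Perm α).trans e) = 1 := by
    apply hnoaut
    · intro j hj
      have hjlt := j.isLt
      have hji : e (x ⟨j.val - (v - t), by omega⟩) = j := by
        apply Fin.ext
        rw [hex]
        simp only
        omega
      show e ((g : Equiv.Perm α) (e.symm j)) = j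
      rw [← hji, Equiv.symm_apply_apply, hgx]
    · intro m hm
      have hmB : ofMask e m ∈ B := by
        rw [he]
        have : toMask e (ofMask e m) = m :=
          ofMask_inj e (toMask_lt e _) (hlt m hm) (ofMask_toMask e _)
        rw [this]
        exact hm
      have h2 := (he _).mp (hgB _ hmB)
      have h3 : toMask (e.symm.trans ((g : Equiv.Perm α).trans e)) (ofMask (Equiv.refl (Fin v)) m)
          = toMask e ((ofMask e m).image (g : Equiv.Perm α)) := by
        apply Nat.eq_of_testBit_eq
        intro j
        apply Bool.eq_iff_iff.mpr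
        rw [testBit_toMask', testBit_toMask']
        constructor
        · rintro ⟨a, ha, haj⟩
          rw [mem_ofMask] at ha
          refine ⟨(g : Equiv.Perm α) (e.symm a), Finset.mem_image_of_mem _ ?_, haj⟩
          rw [mem_ofMask, Equiv.apply_symm_apply]
          exact ha
        · rintro ⟨q, hq, hqj⟩
          obtain ⟨r, hr, rfl⟩ := Finset.mem_image.mp hq
          rw [mem_ofMask] at hr
          refine ⟨e r, ?_, ?_⟩
          · rw [mem_ofMask]
            exact hr
          · show (e ((g : Equiv.Perm α) (e.symm (e r)))).val = j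
            rw [Equiv.symm_apply_apply]
            exact hqj
      rw [h3]
      exact h2
  apply Subtype.ext
  apply Equiv.ext
  intro a
  have h2 := DFunLike.congr_fun h1 (e a)
  have h3 : e ((g : Equiv.Perm α) (e.symm (e a))) = e a := h2
  rw [Equiv.symm_apply_apply] at h3
  exact e.injective h3

end

end Cfsg.Agent.H9.Stc
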