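import Cfsg.Agent.H9.Stc11
import Cfsg.Agent.H9.StcAut

/-! The automorphism group of an `S(4, 5, 11)` is sharply 4-transitive (helper9). -/

set_option autoImplicit false

namespace Cfsg.Agent.H9.Stc

open Cfsg Cfsg.Agent.H9 Cfsg.Agent.H34

set_option maxRecDepth 100000 in
theorem s11_noAutChk : noAutChk 11 7 s11B0 s11B0L [7, 8, 9, 10] = true := by
  decide +kernel

theorem s11_noAut (h : Equiv.Perm (Fin 11)) (hfix : ∀ j : Fin 11, 11 - 4 ≤ j.val → h j = j)
    (hpres : ∀ m ∈ s11B0L, toMask h (ofMask (Equiv.refl (Fin 11)) m) ∈ s11B0L) : h = 1 :=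
  noAut_sound s11_noAutChk (by decide) (by norm_num) (by norm_num) s11_bitmap h hfix hpres

set_option maxRecDepth 100000 in
theorem s11_lt : ∀ m ∈ s11B0L, m < 2 ^ 11 := by
  decide +kernel

/-- The automorphism group of an `S(4, 5, 11)` is sharply 4-transitive. -/
theorem s11_aut {α : Type*} [Fintype α] [DecidableEq α] (hα : Fintype.card α = 11)
    {B : Set (Finset α)} (hB : IsSteinerSystem 4 5 B) :
    MulAction.IsMultiplyPretransitive (setSystemAut B) α 4 ∧
      ∀ x : Fin 4 ↪ α, MulAction.stabilizer (setSystemAut B) x = ⊥ :=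
  ⟨aut_transitive hα hB s11_b0_spec (fun e he => s11_pointed hB e he),
    fun x => aut_sharp hα hB s11_b0_spec (fun e he => s11_pointed hB e he) s11_noAut s11_lt x⟩

end Cfsg.Agent.H9.Stc
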