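import Cfsg.Agent.H9.StcMain

/-!
# From pointed uniqueness to isomorphism and automorphisms (helper9)

Generic consequences of the pointed uniqueness statement `Stc.pointed` for a Steiner system
`S(t, t+1, v)`: any two systems are isomorphic, the automorphism group is `t`-transitive, and
(given a kernel check that the standard system has no automorphism fixing `t` points) sharply so.
-/

set_option autoImplicit false
set_option linter.unusedSectionVars false

namespace Cfsg.Agent.H9.Stc

open Cfsg Cfsg.Agent.H9 Cfsg.Agent.H34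
open scoped Pointwise

section
variable {α : Type*} [Fintype α] [DecidableEq α] {v t : ℕ}

/-- a numbering sending given points to the top labels -/
theorem exists_numbering {j : ℕ} (hα : Fintype.card α = v) (f : Fin j → α)
    (hf : Function.Injective f) :
    ∃ e : α ≃ Fin v, ∀ i : Fin j, (e (f i)).val = v - j + i.val := by
  have hj : j ≤ v := by
    have := Fintype.card_le_of_injective f hf
    rwa [Fintype.card_fin, hα] at this
  let e0 : α ≃ Fin v := Fintype.equivFinOfCardEq hα
  let z : Fin j → Fin v := fun i => ⟨v - j + i.val, by have := i.isLt; omega⟩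
  have hz : Function.Injective z := by
    intro a b hab
    have := congrArg Fin.val hab
    simp only [z] at this
    exact Fin.ext (by omega)
  obtain ⟨σ, hσ⟩ := Equiv.Perm.exists_extending_pair (fun i => e0 (f i)) z
    (e0.injective.comp hf) hz
  refine ⟨e0.trans σ, fun i => ?_⟩
  show (σ (e0 (f i))).val = _
  rw [hσ i]

/-- a standard numbering for a block given as a tuple -/
theorem exists_std (hα : Fintype.card α = v) {b0 : ℕ} {B0L : List ℕ} {B : Set (Finset α)}
    (hb0 : ∀ j < v, b0.testBit j = true ↔ v ≤ j + (t + 1))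
    (hP : ∀ e : α ≃ Fin v, ofMask e b0 ∈ B →
      ∃ e' : α ≃ Fin v, agree (t + 1) e e' ∧ ∀ b : Finset α, b ∈ B ↔ toMask e' b ∈ B0L)
    (f : Fin (t + 1) → α) (hf : Function.Injective f) (hfB : Finset.univ.image f ∈ B) :
    ∃ e' : α ≃ Fin v, (∀ i : Fin (t + 1), (e' (f i)).val = v - (t + 1) + i.val) ∧
      ∀ b : Finset α, b ∈ B ↔ toMask e' b ∈ B0L := by
  obtain ⟨e, he⟩ := exists_numbering hα f hf
  have hk : t + 1 ≤ v := by
    have := Fintype.card_le_of_injective f hf
    rwa [Fintype.card_fin, hα] at this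
  have hmask : ofMask e b0 = Finset.univ.image f := by
    ext a
    rw [mem_ofMask, hb0 _ (e a).isLt, Finset.mem_image]
    constructor
    · intro h
      have hlt := (e a).isLt
      refine ⟨⟨(e a).val - (v - (t + 1)), by omega⟩, Finset.mem_univ _, ?_⟩
      apply e.injective
      apply Fin.ext
      rw [he]
      simp only
      omega
    · rintro ⟨i, -, rfl⟩
      rw [he]
      have := i.isLt
      omega
  obtain ⟨e', hag, hstd⟩ := hP e (hmask ▸ hfB)
  refine ⟨e', fun i => ?_, hstd⟩
  rw [hag (f i) (by rw [he]; have := i.isLt; omega), he]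

/-- the block through `t` given points, as a tuple starting with the extra point -/
theorem exists_block_tuple {B : Set (Finset α)} (hB : IsSteinerSystem t (t + 1) B)
    (x : Fin t ↪ α) :
    ∃ f : Fin (t + 1) → α, Function.Injective f ∧ Finset.univ.image f ∈ B ∧
      ∀ i : Fin t, f i.succ = x i := by
  have hc : (Finset.univ.map x).card = t := by simp
  obtain ⟨β, ⟨hβB, hxβ⟩, -⟩ := hB.2 _ hc
  have hcardβ := hB.1 β hβB
  have hsd : (β \ Finset.univ.map x).card = 1 := by
    rw [Finset.card_sdiff_of_subset hxβ, hcardβ, hc]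
    omega
  obtain ⟨p, hp⟩ := Finset.card_eq_one.mp hsd
  have hpβ : p ∈ β ∧ p ∉ Finset.univ.map x := by
    have : p ∈ β \ Finset.univ.map x := by
      rw [hp]
      exact Finset.mem_singleton_self p
    exact Finset.mem_sdiff.mp this
  refine ⟨Fin.cons p x, ?_, ?_, fun i => by simp⟩
  · apply Fin.cons_injective_of_injective _ x.injective
    rintro ⟨i, hi⟩
    exact hpβ.2 (by simp [← hi])
  · have : Finset.univ.image (Fin.cons p x : Fin (t + 1) → α) = β := by
      ext a
      rw [Finset.mem_image]
      constructor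
      · rintro ⟨i, -, rfl⟩
        refine Fin.cases ?_ (fun i => ?_) i
        · simpa using hpβ.1
        · rw [Fin.cons_succ]
          exact hxβ (by simp)
      · intro ha
        by_cases hax : a ∈ Finset.univ.map x
        · obtain ⟨i, -, rfl⟩ := Finset.mem_map.mp hax
          exact ⟨i.succ, Finset.mem_univ _, by simp⟩
        · have : a ∈ β \ Finset.univ.map x := Finset.mem_sdiff.mpr ⟨ha, hax⟩
          rw [hp, Finset.mem_singleton] at this
          exact ⟨0, Finset.mem_univ _, by simp [this]⟩
    rw [this]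
    exact hβB

theorem toMask_image_trans {β' : Type*} [Fintype β'] [DecidableEq β'] (e : α ≃ Fin v)
    (e2 : β' ≃ Fin v) (b : Finset α) :
    toMask e2 (b.image (e.trans e2.symm)) = toMask e b := by
  apply Nat.eq_of_testBit_eq
  intro j
  apply Bool.eq_iff_iff.mpr
  rw [testBit_toMask', testBit_toMask']
  constructor
  · rintro ⟨p, hp, hpj⟩
    obtain ⟨a, ha, rfl⟩ := Finset.mem_image.mp hp
    exact ⟨a, ha, by simpa using hpj⟩
  · rintro ⟨a, ha, haj⟩
    exact ⟨_, Finset.mem_image_of_mem _ ha, by simpa using haj⟩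

/-- two systems with standard numberings are isomorphic -/
theorem iso_of_std {β' : Type*} [Fintype β'] [DecidableEq β'] {B : Set (Finset α)}
    {B' : Set (Finset β')} {B0L : List ℕ} (e : α ≃ Fin v) (e2 : β' ≃ Fin v)
    (h1 : ∀ b : Finset α, b ∈ B ↔ toMask e b ∈ B0L)
    (h2 : ∀ b : Finset β', b ∈ B' ↔ toMask e2 b ∈ B0L) :
    (fun b : Finset α => b.image (e.trans e2.symm)) '' B = B' := by
  ext b'
  constructor
  · rintro ⟨b, hb, rfl⟩
    show b.image _ ∈ B'
    rw [h2, toMask_image_trans]
    exact (h1 b).mp hb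
  · intro hb'
    refine ⟨b'.image (e2.trans e.symm), ?_, ?_⟩
    · rw [h1, toMask_image_trans]
      exact (h2 b').mp hb'
    · show (b'.image _).image _ = b'
      rw [Finset.image_image]
      ext a
      simp

/-- uniqueness up to isomorphism from pointed uniqueness -/
theorem iso_of_pointed {β' : Type*} [Fintype β'] [DecidableEq β'] (hα : Fintype.card α = v)
    (hβ : Fintype.card β' = v) (htv : t ≤ v) {b0 : ℕ} {B0L : List ℕ} {B : Set (Finset α)}
    {B' : Set (Finset β')} (hB : IsSteinerSystem t (t + 1) B)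
    (hB' : IsSteinerSystem t (t + 1) B')
    (hb0 : ∀ j < v, b0.testBit j = true ↔ v ≤ j + (t + 1))
    (hP : ∀ e : α ≃ Fin v, ofMask e b0 ∈ B →
      ∃ e' : α ≃ Fin v, agree (t + 1) e e' ∧ ∀ b : Finset α, b ∈ B ↔ toMask e' b ∈ B0L)
    (hP' : ∀ e : β' ≃ Fin v, ofMask e b0 ∈ B' →
      ∃ e' : β' ≃ Fin v, agree (t + 1) e e' ∧ ∀ b : Finset β', b ∈ B' ↔ toMask e' b ∈ B0L) :
    SetSystemIso B B' := by
  obtain ⟨x⟩ : Nonempty (Fin t ↪ α) := by
    rw [Function.Embedding.nonempty_iff_card_le, Fintype.card_fin, hα]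
    exact htv
  obtain ⟨y⟩ : Nonempty (Fin t ↪ β') := by
    rw [Function.Embedding.nonempty_iff_card_le, Fintype.card_fin, hβ]
    exact htv
  obtain ⟨f, hf, hfB, -⟩ := exists_block_tuple hB x
  obtain ⟨f', hf', hfB', -⟩ := exists_block_tuple hB' y
  obtain ⟨e, -, he⟩ := exists_std hα hb0 hP f hf hfB
  obtain ⟨e2, -, he2⟩ := exists_std hβ hb0 hP' f' hf' hfB'
  exact ⟨e.trans e2.symm, iso_of_std e e2 he he2⟩

end

end Cfsg.Agent.H9.Stc
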