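import Cfsg.Agent.H9.StcSound

/-!
# Pointed uniqueness of a Steiner system `S(t, t+1, v)` from a successful search (helper9)
-/

set_option autoImplicit false
set_option linter.unusedSectionVars false

namespace Cfsg.Agent.H9.Stc

open Cfsg Cfsg.Agent.H9 Cfsg.Agent.H34

/-- bitmap of a list of masks -/
def bitmapOf : List ℕ → ℕ
  | [] => 0
  | m :: l => Nat.lor (bitmapOf l) (Nat.shiftLeft 1 m)

theorem tb_bitmapOf (l : List ℕ) (m : ℕ) : tb (bitmapOf l) m = true ↔ m ∈ l := by
  induction l with
  | nil => simp [bitmapOf, tb_eq]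
  | cons a l ih =>
    rw [bitmapOf, tb_lor_shift, ih, List.mem_cons]
    tauto

/-- initial coverage: the subsets of the block `b` obtained by deleting a point -/
def covInit : ℕ → ℕ → ℕ
  | 0, _ => 0
  | i + 1, b =>
      cond (tb b i) (Nat.lor (covInit i b) (Nat.shiftLeft 1 (Nat.add (tog b i) 32))) (covInit i b)

theorem testBit_covInit (v b w : ℕ) : (covInit v b).testBit (w + 32) = true ↔
    ∃ i < v, b.testBit i = true ∧ w = b ^^^ 2 ^ i := by
  induction v with
  | zero => simp [covInit]
  | succ n ih =>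
    rw [covInit]
    cases hb : tb b n with
    | false =>
      rw [cond_false, ih]
      rw [tb_eq] at hb
      constructor
      · rintro ⟨i, hi, h⟩
        exact ⟨i, Nat.lt_succ_of_lt hi, h⟩
      · rintro ⟨i, hi, h1, h2⟩
        rcases Nat.lt_succ_iff_lt_or_eq.mp hi with h3 | rfl
        · exact ⟨i, h3, h1, h2⟩
        · rw [hb] at h1
          exact absurd h1 (by simp)
    | true =>
      rw [cond_true, ← tb_eq, tb_lor_shift, tb_eq, ih, tog_eq]
      rw [tb_eq] at hb
      constructor
      · rintro (⟨i, hi, h⟩ | h)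
        · exact ⟨i, Nat.lt_succ_of_lt hi, h⟩
        · exact ⟨n, Nat.lt_succ_self n, hb, Nat.add_right_cancel h⟩
      · rintro ⟨i, hi, h1, h2⟩
        rcases Nat.lt_succ_iff_lt_or_eq.mp hi with h3 | rfl
        · exact Or.inl ⟨i, h3, h1, h2⟩
        · exact Or.inr (by rw [h2])

/-- the subsets of `s` obtained by deleting a point -/
def subsL : ℕ → ℕ → List ℕ
  | 0, _ => []
  | i + 1, s => cond (tb s i) (tog s i :: subsL i s) (subsL i s)

theorem mem_subsL (v s w : ℕ) : w ∈ subsL v s ↔ ∃ i < v, s.testBit i = true ∧ w = s ^^^ 2 ^ i := by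
  induction v with
  | zero => simp [subsL]
  | succ n ih =>
    rw [subsL]
    cases hb : tb s n with
    | false =>
      rw [cond_false, ih]
      rw [tb_eq] at hb
      constructor
      · rintro ⟨i, hi, h⟩
        exact ⟨i, Nat.lt_succ_of_lt hi, h⟩
      · rintro ⟨i, hi, h1, h2⟩
        rcases Nat.lt_succ_iff_lt_or_eq.mp hi with h3 | rfl
        · exact ⟨i, h3, h1, h2⟩
        · rw [hb] at h1
          exact absurd h1 (by simp)
    | true =>
      rw [cond_true, List.mem_cons, ih, tog_eq]
      rw [tb_eq] at hb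
      constructor
      · rintro (h | ⟨i, hi, h⟩)
        · exact ⟨n, Nat.lt_succ_self n, hb, h⟩
        · exact ⟨i, Nat.lt_succ_of_lt hi, h⟩
      · rintro ⟨i, hi, h1, h2⟩
        rcases Nat.lt_succ_iff_lt_or_eq.mp hi with h3 | rfl
        · exact Or.inr ⟨i, h3, h1, h2⟩
        · exact Or.inl h2

/-- equality of lists of numbers -/
def eqL : List ℕ → List ℕ → Bool
  | [], [] => true
  | a :: l, b :: l' => Nat.beq a b && eqL l l'
  | _, _ => false

theorem eqL_eq : ∀ (l l' : List ℕ), eqL l l' = true → l = l'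
  | [], [], _ => rfl
  | a :: l, b :: l', h => by
    rw [eqL, Bool.and_eq_true] at h
    rw [Nat.eq_of_beq_eq_true h.1, eqL_eq l l' h.2]
  | [], _ :: _, h => by simp [eqL] at h
  | _ :: _, [], h => by simp [eqL] at h

/-- a valid entry of the list of `t`-sets -/
def entryOK (v t : ℕ) (p : ℕ × List ℕ) : Bool :=
  Nat.blt p.1 (Nat.shiftLeft 1 v) && (Nat.beq (popc v p.1) t && eqL p.2 (subsL v p.1))

theorem entryOK_spec (v t : ℕ) (p : ℕ × List ℕ) (h : entryOK v t p = true) :
    p.1 < 2 ^ v ∧ popc v p.1 = t ∧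
      ∀ w, w ∈ p.2 ↔ ∃ i < v, p.1.testBit i = true ∧ w = p.1 ^^^ 2 ^ i := by
  unfold entryOK at h
  rw [Bool.and_eq_true, Bool.and_eq_true] at h
  obtain ⟨h1, h2, h3⟩ := h
  refine ⟨?_, Nat.eq_of_beq_eq_true h2, ?_⟩
  · rw [shl_one] at h1
    simpa [Nat.blt_eq] using h1
  · intro w
    rw [eqL_eq _ _ h3]
    exact mem_subsL v p.1 w

/-- Pointed uniqueness from a successful search: every Steiner system containing the block with
mask `b0` (for the numbering `e`) is, for a numbering agreeing with `e` on the top `t+1` labels,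
the standard system `B0L`. -/
theorem pointed {v t N B0 b0 nb0 : ℕ} {B0L certs : List ℕ} {todo : List (ℕ × List ℕ)}
    (hsearch : (srch v (t + 1) B0 N todo (covInit v b0) [b0] nb0 certs).isSome = true)
    (htodo : todo.all (entryOK v t) = true)
    (hB0 : B0 = bitmapOf B0L) (hlen : B0L.length = N) (hN : N * (t + 1) = Nat.choose v t)
    (hb0 : b0 < 2 ^ v) (hnb : splitC nb0 b0 = nb0) (hnb3 : nb0 < 2 ^ (v - (t + 1) - 1))
    {α : Type*} [Fintype α] [DecidableEq α] {B : Set (Finset α)}
    (hB : IsSteinerSystem t (t + 1) B) (e : α ≃ Fin v) (he : ofMask e b0 ∈ B) :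
    ∃ e' : α ≃ Fin v, agree (t + 1) e e' ∧ ∀ b : Finset α, b ∈ B ↔ toMask e' b ∈ B0L := by
  have hcardα : Fintype.card α = v := by rw [Fintype.card_congr e, Fintype.card_fin]
  have hBN : B.ncard = N := by
    have h := Cfsg.Agent.H8.steiner_card hB
    rw [hcardα, Nat.choose_succ_self_right, ← hN] at h
    exact Nat.eq_of_mul_eq_mul_right (Nat.succ_pos t) h
  obtain ⟨certs', hs⟩ := Option.isSome_iff_exists.mp hsearch
  have key : ∃ e' : α ≃ Fin v, agree (t + 1) e e' ∧ ∀ b ∈ B, tb B0 (toMask e' b) = true := by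
    refine srch_sound hB (t + 1) B0 N hBN todo (covInit v b0) [b0] nb0 certs certs' hs
      ?_ ?_ ?_ (List.nodup_singleton b0) ?_ ?_ e ?_
    · intro w
      rw [testBit_covInit]
      simp
    · intro m hm i hi
      rw [List.mem_singleton] at hm
      rw [hm]
      rw [← hnb, testBit_splitC] at hi
      exact hi.2
    · intro i hi
      by_contra hlt
      have h1 : v - (t + 1) - 1 ≤ i := by omega
      rw [Nat.testBit_lt_two_pow (lt_of_lt_of_le hnb3 (Nat.pow_le_pow_right (by norm_num) h1))] at hi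
      exact absurd hi (by simp)
    · intro p hp
      exact entryOK_spec v t p (List.all_eq_true.mp htodo p hp)
    · intro m hm
      rw [List.mem_singleton] at hm
      rw [hm]
      exact hb0
    · intro m hm
      rw [List.mem_singleton] at hm
      rw [hm]
      exact he
  obtain ⟨e', hag, he'⟩ := key
  have hfwd : ∀ b ∈ B, toMask e' b ∈ B0L := by
    intro b hb
    have := he' b hb
    rw [hB0, tb_bitmapOf] at this
    exact this
  refine ⟨e', hag, fun b => ⟨hfwd b, fun hb => ?_⟩⟩
  have hsub : (toMask e') '' B ⊆ (↑B0L.toFinset : Set ℕ) := by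
    rintro _ ⟨b', hb', rfl⟩
    simpa using hfwd b' hb'
  have hinj : Set.InjOn (toMask e') B := by
    intro b1 _ b2 _ h
    rw [← ofMask_toMask e' b1, h, ofMask_toMask]
  have hc1 : ((toMask e') '' B).ncard = N := by rw [hinj.ncard_image, hBN]
  have hc2 : (↑B0L.toFinset : Set ℕ).ncard ≤ N := by
    rw [Set.ncard_coe_finset, ← hlen]
    exact List.toFinset_card_le B0L
  have heq := Set.eq_of_subset_of_ncard_le hsub (by rw [hc1]; exact hc2) (Finset.finite_toSet _)
  have hmem : toMask e' b ∈ (toMask e') '' B := by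
    rw [heq]
    simpa using hb
  obtain ⟨b', hb', hbb⟩ := hmem
  have : b' = b := by rw [← ofMask_toMask e' b', hbb, ofMask_toMask]
  exact this ▸ hb'

end Cfsg.Agent.H9.Stc
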