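import Cfsg.Agent.H9.Stc

/-!
# Soundness of the Steiner system search `Stc.srch` (helper9)

`srch_sound`: if the search succeeds from a state whose chosen blocks are blocks of a Steiner
system `B` (for the numbering `e`), then `B` is carried into the standard system `B0` by a
numbering that agrees with `e` on the top `k0` labels.
-/

set_option autoImplicit false
set_option linter.unusedSectionVars false

namespace Cfsg.Agent.H9.Stc

open Cfsg Cfsg.Agent.H9 Cfsg.Agent.H34

section
variable {α : Type*} [Fintype α] [DecidableEq α] {v : ℕ}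

theorem testBit_toMask' (e : α ≃ Fin v) (s : Finset α) (j : ℕ) :
    (toMask e s).testBit j = true ↔ ∃ p ∈ s, (e p).val = j := by
  by_cases hj : j < v
  · have h := testBit_toMask e s (e.symm ⟨j, hj⟩)
    rw [Equiv.apply_symm_apply] at h
    rw [h]
    constructor
    · intro hp
      exact ⟨_, hp, by simp⟩
    · rintro ⟨p, hp, hpj⟩
      have : p = e.symm ⟨j, hj⟩ := by
        apply e.injective
        rw [Equiv.apply_symm_apply]
        exact Fin.ext hpj
      exact this ▸ hp
  · constructor
    · intro h
      exfalso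
      have h1 := toMask_lt e s
      rw [Nat.testBit_lt_two_pow (lt_of_lt_of_le h1
        (Nat.pow_le_pow_right (by norm_num) (not_lt.mp hj)))] at h
      exact absurd h (by simp)
    · rintro ⟨p, -, hpj⟩
      exact absurd (hpj ▸ (e p).isLt) hj

theorem ofMask_two_pow (e : α ≃ Fin v) (x : Fin v) : ofMask e (2 ^ x.val) = {e.symm x} := by
  ext p
  rw [mem_ofMask, Nat.testBit_two_pow, Finset.mem_singleton, decide_eq_true_eq]
  constructor
  · intro h
    apply e.injective
    rw [Equiv.apply_symm_apply]
    exact (Fin.ext h).symm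
  · intro h
    rw [h, Equiv.apply_symm_apply]

theorem ofMask_xor_subset (e : α ≃ Fin v) (m i : ℕ) (h : m.testBit i = true) :
    ofMask e (m ^^^ 2 ^ i) ⊆ ofMask e m := by
  intro p hp
  rw [mem_ofMask] at hp ⊢
  rw [Nat.testBit_xor, Nat.testBit_two_pow] at hp
  by_cases hip : i = (e p).val
  · rw [← hip, h] at hp
    simp at hp
  · simpa [hip] using hp

theorem card_ofMask_xor (e : α ≃ Fin v) (m i : ℕ) (hi : i < v) (h : m.testBit i = true) :
    (ofMask e (m ^^^ 2 ^ i)).card + 1 = (ofMask e m).card := by
  have h1 : ofMask e (m ^^^ 2 ^ i) = (ofMask e m).erase (e.symm ⟨i, hi⟩) := by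
    ext p
    rw [mem_ofMask, Finset.mem_erase, mem_ofMask, Nat.testBit_xor, Nat.testBit_two_pow]
    by_cases hip : i = (e p).val
    · have hp : p = e.symm ⟨i, hi⟩ := by
        apply e.injective
        rw [Equiv.apply_symm_apply]
        exact (Fin.ext hip).symm
      rw [← hip, h]
      simp [hp]
    · have hp : p ≠ e.symm ⟨i, hi⟩ := by
        intro hp
        apply hip
        rw [hp, Equiv.apply_symm_apply]
      simp [hip, hp]
  have h2 : e.symm ⟨i, hi⟩ ∈ ofMask e m := by
    rw [mem_ofMask, Equiv.apply_symm_apply]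
    exact h
  rw [h1, Finset.card_erase_of_mem h2]
  have := Finset.card_pos.mpr ⟨_, h2⟩
  omega

/-- `e'` agrees with `e` on the points with the top `k0` labels -/
def agree (k0 : ℕ) (e e' : α ≃ Fin v) : Prop := ∀ a, v ≤ (e a).val + k0 → e' a = e a

theorem agree_refl (k0 : ℕ) (e : α ≃ Fin v) : agree k0 e e := fun _ _ => rfl

theorem agree_trans {k0 : ℕ} {e e' e'' : α ≃ Fin v} (h1 : agree k0 e e') (h2 : agree k0 e' e'') :
    agree k0 e e'' := by
  intro a ha
  have h := h1 a ha
  rw [← h]
  apply h2
  rw [h]
  exact ha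

/-- Normalising a set `β ⊇ s` with respect to the cells: some relabelling inside the cells, not
moving the chosen blocks nor `s`, makes `β` meet every cell in a top segment. -/
theorem cell_wlog (k0 nb s : ℕ) (bl : List ℕ)
    (H2 : ∀ m ∈ bl, ∀ i, nb.testBit i = true → m.testBit i = m.testBit (i + 1))
    (H3 : ∀ i, nb.testBit i = true → i + 1 + k0 < v)
    (hs : okCell s nb = true) (e : α ≃ Fin v) (β : Finset α) (hsβ : ofMask e s ⊆ β) :
    ∃ e₁ : α ≃ Fin v, agree k0 e e₁ ∧ (∀ m ∈ bl, ofMask e₁ m = ofMask e m) ∧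
      ofMask e₁ s = ofMask e s ∧ okCell (toMask e₁ β) nb = true := by
  classical
  let E : Set (α ≃ Fin v) :=
    {e₁ | agree k0 e e₁ ∧ (∀ m ∈ bl, ofMask e₁ m = ofMask e m) ∧ ofMask e₁ s = ofMask e s}
  have hE : E.Nonempty := ⟨e, agree_refl k0 e, fun _ _ => rfl, rfl⟩
  obtain ⟨e₁, he₁, hmax⟩ := Set.exists_max_image E (fun e₁ => toMask e₁ β) (Set.toFinite E) hE
  refine ⟨e₁, he₁.1, he₁.2.1, he₁.2.2, ?_⟩
  rw [okCell_iff]
  intro i hbi hni
  by_contra hb1
  have hb1' : (toMask e₁ β).testBit (i + 1) = false := by simpa using hb1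
  have hiv : i + 1 + k0 < v := H3 i hni
  have hi : i < v := by omega
  have hi1 : i + 1 < v := by omega
  let τ : Equiv.Perm (Fin v) := Equiv.swap ⟨i, hi⟩ ⟨i + 1, hi1⟩
  have hτ0 : τ ⟨i, hi⟩ = ⟨i + 1, hi1⟩ := Equiv.swap_apply_left _ _
  have hτ1 : τ ⟨i + 1, hi1⟩ = ⟨i, hi⟩ := Equiv.swap_apply_right _ _
  have hτ2 : ∀ j : Fin v, j ≠ ⟨i, hi⟩ → j ≠ ⟨i + 1, hi1⟩ → τ j = j :=
    fun j h1 h2 => Equiv.swap_apply_of_ne_of_ne h1 h2
  have hs1 : s.testBit (i + 1) = false := by
    by_contra h
    have h' : s.testBit (i + 1) = true := by simpa using h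
    have hmem : e₁.symm ⟨i + 1, hi1⟩ ∈ ofMask e₁ s := by
      rw [mem_ofMask, Equiv.apply_symm_apply]
      exact h'
    rw [he₁.2.2] at hmem
    have h2 := (testBit_toMask e₁ β (e₁.symm ⟨i + 1, hi1⟩)).mpr (hsβ hmem)
    rw [Equiv.apply_symm_apply] at h2
    rw [hb1'] at h2
    exact absurd h2 (by simp)
  have hs0 : s.testBit i = false := by
    by_contra h
    have h' : s.testBit i = true := by simpa using h
    have h2 := (okCell_iff s nb).mp hs i h' hni
    rw [hs1] at h2
    exact absurd h2 (by simp)
  have hτ : ∀ (m : ℕ), m.testBit i = m.testBit (i + 1) →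
      ∀ j : Fin v, m.testBit (τ j).val = m.testBit j.val := by
    intro m hm j
    by_cases hj : j = ⟨i, hi⟩
    · rw [hj, hτ0]
      exact hm.symm
    · by_cases hj' : j = ⟨i + 1, hi1⟩
      · rw [hj', hτ1]
        exact hm
      · rw [hτ2 j hj hj']
  have hE₂ : e₁.trans τ ∈ E := by
    refine ⟨?_, ?_, ?_⟩
    · apply agree_trans he₁.1
      intro a ha
      show τ (e₁ a) = e₁ a
      apply hτ2
      · intro h
        have := congrArg Fin.val h
        simp only at this
        omega
      · intro h
        have := congrArg Fin.val h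
        simp only at this
        omega
    · intro m hm
      rw [← he₁.2.1 m hm]
      ext a
      rw [mem_ofMask, mem_ofMask]
      show m.testBit (τ (e₁ a)).val = true ↔ _
      rw [hτ m (H2 m hm i hni)]
    · rw [← he₁.2.2]
      ext a
      rw [mem_ofMask, mem_ofMask]
      show s.testBit (τ (e₁ a)).val = true ↔ _
      rw [hτ s (by rw [hs0, hs1])]
  have hlt : toMask e₁ β < toMask (e₁.trans τ) β := by
    apply Nat.lt_of_testBit (i + 1) hb1'
    · rw [testBit_toMask']
      obtain ⟨p, hp, hpi⟩ := (testBit_toMask' e₁ β i).mp hbi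
      refine ⟨p, hp, ?_⟩
      show (τ (e₁ p)).val = i + 1
      have : e₁ p = ⟨i, hi⟩ := Fin.ext hpi
      rw [this, hτ0]
    · intro j hj
      apply Bool.eq_iff_iff.mpr
      rw [testBit_toMask', testBit_toMask']
      constructor
      · rintro ⟨p, hp, hpj⟩
        refine ⟨p, hp, ?_⟩
        show (τ (e₁ p)).val = j
        rw [hτ2]
        · exact hpj
        · intro h
          have := congrArg Fin.val h
          simp only at this
          omega
        · intro h
          have := congrArg Fin.val h
          simp only at this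
          omega
      · rintro ⟨p, hp, hpj⟩
        refine ⟨p, hp, ?_⟩
        have hpj' : (τ (e₁ p)).val = j := hpj
        by_cases h1 : e₁ p = ⟨i, hi⟩
        · rw [h1, hτ0] at hpj'
          simp only at hpj'
          omega
        · by_cases h2 : e₁ p = ⟨i + 1, hi1⟩
          · rw [h2, hτ1] at hpj'
            simp only at hpj'
            omega
          · rw [hτ2 _ h1 h2] at hpj'
            exact hpj'
  exact absurd (hmax (e₁.trans τ) hE₂) (not_le.mpr hlt)

theorem exists_perm_of_permOK (v c : ℕ) (h : permOK v c = true) :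
    ∃ σ : Equiv.Perm (Fin v), ∀ i : Fin v, (σ i).val = lk c i.val := by
  unfold permOK at h
  rw [Bool.and_eq_true, allB_iff] at h
  obtain ⟨h1, h2⟩ := h
  have h1' : ∀ i < v, lk c i < v := fun i hi => by
    have := h1 i hi
    simpa [Nat.blt_eq] using this
  have h2' : imgV v c (2 ^ v - 1) = 2 ^ v - 1 := by
    have := Nat.eq_of_beq_eq_true h2
    rw [shl_one] at this
    exact this
  let f : Fin v → Fin v := fun i => ⟨lk c i.val, h1' i.val i.isLt⟩
  have hsurj : Function.Surjective f := by
    intro j
    have : (imgV v c (2 ^ v - 1)).testBit j.val = true := by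
      rw [h2', Nat.testBit_two_pow_sub_one]
      simp [j.isLt]
    obtain ⟨i, hi, -, hij⟩ := (testBit_imgV v c _ _).mp this
    exact ⟨⟨i, hi⟩, Fin.ext hij⟩
  have hbij : Function.Bijective f := ⟨Finite.injective_iff_surjective.mpr hsurj, hsurj⟩
  exact ⟨Equiv.ofBijective f hbij, fun i => rfl⟩

theorem fixOK_spec (v k c : ℕ) (h : fixOK v k c = true) (j : ℕ) (hj : j < v) (hjk : v ≤ j + k) :
    lk c j = j := by
  unfold fixOK at h
  rw [allB_iff] at h
  have h1 := h (j - (v - k)) (by omega)
  have h' := Nat.eq_of_beq_eq_true h1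
  have e1 : Nat.add (Nat.sub v k) (j - (v - k)) = j := by
    show (v - k) + (j - (v - k)) = j
    omega
  rw [e1] at h'
  exact h'

theorem leaf_sound (B : Set (Finset α)) (e : α ≃ Fin v) (k0 B0 N c : ℕ) (bl : List ℕ)
    (h : leafOK v k0 B0 N c bl = true) (hN : B.ncard = N) (hnd : bl.Nodup)
    (H6 : ∀ m ∈ bl, m < 2 ^ v) (he : ∀ m ∈ bl, ofMask e m ∈ B) :
    ∃ e' : α ≃ Fin v, agree k0 e e' ∧ ∀ b ∈ B, tb B0 (toMask e' b) = true := by
  unfold leafOK at h
  rw [Bool.and_eq_true, Bool.and_eq_true, Bool.and_eq_true, List.all_eq_true] at h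
  obtain ⟨hp, hf, hlen, hall⟩ := h
  have hlen' : bl.length = N := Nat.eq_of_beq_eq_true hlen
  -- the chosen blocks are all the blocks
  have hbl : ∀ b ∈ B, toMask e b ∈ bl := by
    have hsub : (ofMask e) '' {m | m ∈ bl} ⊆ B := by
      rintro _ ⟨m, hm, rfl⟩
      exact he m hm
    have hinj : Set.InjOn (ofMask e) {m | m ∈ bl} := by
      intro m1 h1 m2 h2 h12
      exact ofMask_inj e (H6 m1 h1) (H6 m2 h2) h12
    have hcard : ((ofMask e) '' {m | m ∈ bl}).ncard = N := by
      rw [hinj.ncard_image]
      have : {m | m ∈ bl} = (↑bl.toFinset : Set ℕ) := by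
        ext m
        simp
      rw [this, Set.ncard_coe_finset, List.toFinset_card_of_nodup hnd, hlen']
    have heq : (ofMask e) '' {m | m ∈ bl} = B :=
      Set.eq_of_subset_of_ncard_le hsub (by rw [hcard, hN]) (Set.toFinite B)
    intro b hb
    rw [← heq] at hb
    obtain ⟨m, hm, hmb⟩ := hb
    have : toMask e b = m := by
      apply ofMask_inj e (toMask_lt e b) (H6 m hm)
      rw [ofMask_toMask, hmb]
    rw [this]
    exact hm
  obtain ⟨σ, hσ⟩ := exists_perm_of_permOK v c hp
  refine ⟨e.trans σ, ?_, ?_⟩
  · intro a ha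
    apply Fin.ext
    show (σ (e a)).val = (e a).val
    rw [hσ]
    exact fixOK_spec v k0 c hf _ (e a).isLt ha
  · intro b hb
    have himg : toMask (e.trans σ) b = imgV v c (toMask e b) := by
      apply Nat.eq_of_testBit_eq
      intro j
      apply Bool.eq_iff_iff.mpr
      rw [testBit_toMask', testBit_imgV]
      constructor
      · rintro ⟨p, hp, hpj⟩
        refine ⟨(e p).val, (e p).isLt, (testBit_toMask e b p).mpr hp, ?_⟩
        rw [← hσ]
        exact hpj
      · rintro ⟨i, hi, hbi, hij⟩
        obtain ⟨p, hp, hpi⟩ := (testBit_toMask' e b i).mp hbi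
        refine ⟨p, hp, ?_⟩
        show (σ (e p)).val = j
        rw [hσ, hpi]
        exact hij
    rw [himg]
    exact hall _ (hbl b hb)

/-- Soundness of the search. -/
theorem srch_sound {t : ℕ} {B : Set (Finset α)} (hB : IsSteinerSystem t (t + 1) B) (k0 B0 N : ℕ)
    (hN : B.ncard = N) :
    ∀ (todo : List (ℕ × List ℕ)) (cov : ℕ) (bl : List ℕ) (nb : ℕ) (certs certs' : List ℕ),
      srch v k0 B0 N todo cov bl nb certs = some certs' →
      (∀ w, cov.testBit (w + 32) = true ↔
        ∃ m ∈ bl, ∃ i < v, m.testBit i = true ∧ w = m ^^^ 2 ^ i) →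
      (∀ m ∈ bl, ∀ i, nb.testBit i = true → m.testBit i = m.testBit (i + 1)) →
      (∀ i, nb.testBit i = true → i + 1 + k0 < v) →
      bl.Nodup →
      (∀ p ∈ todo, p.1 < 2 ^ v ∧ popc v p.1 = t ∧
        ∀ w, w ∈ p.2 ↔ ∃ i < v, p.1.testBit i = true ∧ w = p.1 ^^^ 2 ^ i) →
      (∀ m ∈ bl, m < 2 ^ v) →
      ∀ e : α ≃ Fin v, (∀ m ∈ bl, ofMask e m ∈ B) →
        ∃ e' : α ≃ Fin v, agree k0 e e' ∧ ∀ b ∈ B, tb B0 (toMask e' b) = true := by
  intro todo
  induction todo with
  | nil =>
    intro cov bl nb certs certs' hs H1 H2 H3 H7 H5 H6 e he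
    cases certs with
    | nil => simp [srch] at hs
    | cons c cs =>
      have hleaf : leafOK v k0 B0 N c bl = true := by
        by_contra hc
        have hc' : leafOK v k0 B0 N c bl = false := by simpa using hc
        simp [srch, hc'] at hs
      exact leaf_sound B e k0 B0 N c bl hleaf hN H7 H6 he
  | cons p rest ih =>
    intro cov bl nb certs certs' hs H1 H2 H3 H7 H5 H6 e he
    rw [srch] at hs
    obtain ⟨hs_lt, hs_pc, hus⟩ := H5 p (List.mem_cons_self ..)
    have H5' : ∀ p' ∈ rest, p'.1 < 2 ^ v ∧ popc v p'.1 = t ∧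
        ∀ w, w ∈ p'.2 ↔ ∃ i < v, p'.1.testBit i = true ∧ w = p'.1 ^^^ 2 ^ i :=
      fun p' hp' => H5 p' (List.mem_cons_of_mem _ hp')
    cases hcs : tb cov (Nat.add p.1 32) with
    | true =>
      rw [hcs, cond_true] at hs
      have hcs' : cov.testBit (p.1 + 32) = true := by
        rw [← tb_eq]
        exact hcs
      exact ih cov bl nb certs certs' hs H1 H2 H3 H7 H5' H6 e he
    | false =>
      rw [hcs, cond_false] at hs
      have hcs' : cov.testBit (p.1 + 32) = false := by
        rw [← tb_eq]
        exact hcs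
      cases hok : okCell p.1 nb with
      | false =>
        rw [hok, cond_false] at hs
        exact absurd hs (by simp)
      | true =>
        rw [hok, cond_true, frc_eq] at hs
        -- the block through `s`
        have hcardS : (ofMask e p.1).card = t := by rw [card_ofMask, hs_pc]
        obtain ⟨β, ⟨hβB, hSβ⟩, -⟩ := hB.2 (ofMask e p.1) hcardS
        obtain ⟨e₁, hag, hbl₁, hs₁, hokβ⟩ := cell_wlog k0 nb p.1 bl H2 H3 hok e β hSβ
        have he₁ : ∀ m ∈ bl, ofMask e₁ m ∈ B := fun m hm => by
          rw [hbl₁ m hm]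
          exact he m hm
        have hSβ₁ : ofMask e₁ p.1 ⊆ β := by
          rw [hs₁]
          exact hSβ
        have hcardS₁ : (ofMask e₁ p.1).card = t := by rw [card_ofMask, hs_pc]
        have hcardβ : β.card = t + 1 := hB.1 β hβB
        have hb_lt : toMask e₁ β < 2 ^ v := toMask_lt e₁ β
        -- the extra point
        have hsd : (β \ ofMask e₁ p.1).card = 1 := by
          rw [Finset.card_sdiff_of_subset hSβ₁, hcardβ, hcardS₁]
          omega
        obtain ⟨a, ha⟩ := Finset.card_eq_one.mp hsd
        have haβ : a ∈ β ∧ a ∉ ofMask e₁ p.1 := by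
          have : a ∈ β \ ofMask e₁ p.1 := by
            rw [ha]
            exact Finset.mem_singleton_self a
          exact Finset.mem_sdiff.mp this
        have hβeq : β = ofMask e₁ p.1 ∪ {a} := by
          rw [← ha]
          exact (Finset.union_sdiff_of_subset hSβ₁).symm
        have hx : (e₁ a).val < v := (e₁ a).isLt
        have hsx : p.1.testBit (e₁ a).val = false := by
          have := haβ.2
          rw [mem_ofMask] at this
          simpa using this
        have hor_lt : p.1 ||| 2 ^ (e₁ a).val < 2 ^ v :=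
          Nat.or_lt_two_pow hs_lt (Nat.pow_lt_pow_right (by norm_num) hx)
        have hb_eq : toMask e₁ β = p.1 ||| 2 ^ (e₁ a).val := by
          apply ofMask_inj e₁ hb_lt hor_lt
          rw [ofMask_toMask, ofMask_or, ofMask_two_pow, Equiv.symm_apply_apply]
          exact hβeq
        have hb_bit : ∀ i, (p.1 ||| 2 ^ (e₁ a).val).testBit i = true ↔
            p.1.testBit i = true ∨ i = (e₁ a).val := by
          intro i
          rw [Nat.testBit_or, Nat.testBit_two_pow, Bool.or_eq_true, decide_eq_true_eq]
          constructor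
          · rintro (h | h)
            · exact Or.inl h
            · exact Or.inr h.symm
          · rintro (h | h)
            · exact Or.inl h
            · exact Or.inr h.symm
        have hofb : ofMask e₁ (p.1 ||| 2 ^ (e₁ a).val) = β := by
          rw [← hb_eq, ofMask_toMask]
        have hnx : ∀ i, p.1.testBit i = true → i ≠ (e₁ a).val := by
          intro i hi hix
          rw [hix, hsx] at hi
          exact absurd hi (by simp)
        -- the three conditions of the engine
        have c1 : tb p.1 (e₁ a).val = false := by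
          rw [tb_eq]
          exact hsx
        have c2 : tb (fmaskT cov p.2) (Nat.add (Nat.shiftLeft 1 (e₁ a).val) 32) = false := by
          by_contra hc
          have hc' : (fmaskT cov p.2).testBit (2 ^ (e₁ a).val + 32) = true := by
            rw [← tb_eq, ← shl_one]
            simpa using hc
          obtain ⟨u, hu, hcu⟩ := testBit_fmaskT cov p.2 _ hc'
          obtain ⟨i, hi, hsi, hui⟩ := (hus u).mp hu
          have hux : u.testBit (e₁ a).val = false := by
            rw [hui, Nat.testBit_xor, Nat.testBit_two_pow, hsx]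
            simp [hnx i hsi]
          have h1 : u + (2 ^ (e₁ a).val + 32) = ((p.1 ||| 2 ^ (e₁ a).val) ^^^ 2 ^ i) + 32 := by
            rw [← Nat.add_assoc, add_two_pow_eq_or u _ hux, hui,
              or_pow_xor_ne p.1 _ i (hnx i hsi)]
          rw [h1] at hcu
          obtain ⟨m, hm, i', hi', hmi', hwm⟩ := (H1 _).mp hcu
          have hbi : (p.1 ||| 2 ^ (e₁ a).val).testBit i = true := (hb_bit i).mpr (Or.inl hsi)
          have hW1 : ofMask e₁ ((p.1 ||| 2 ^ (e₁ a).val) ^^^ 2 ^ i) ⊆ β := by
            rw [← hofb]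
            exact ofMask_xor_subset e₁ _ i hbi
          have hW2 : ofMask e₁ ((p.1 ||| 2 ^ (e₁ a).val) ^^^ 2 ^ i) ⊆ ofMask e₁ m := by
            rw [hwm]
            exact ofMask_xor_subset e₁ m i' hmi'
          have hWc : (ofMask e₁ ((p.1 ||| 2 ^ (e₁ a).val) ^^^ 2 ^ i)).card = t := by
            have := card_ofMask_xor e₁ (p.1 ||| 2 ^ (e₁ a).val) i hi hbi
            rw [hofb, hcardβ] at this
            omega
          obtain ⟨b', -, huniq⟩ := hB.2 _ hWc
          have e1 := huniq β ⟨hβB, hW1⟩
          have e2 := huniq _ ⟨he₁ m hm, hW2⟩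
          have hmb : m = p.1 ||| 2 ^ (e₁ a).val := by
            apply ofMask_inj e₁ (H6 m hm) hor_lt
            rw [hofb, e2, e1]
          have : cov.testBit (p.1 + 32) = true := by
            rw [H1]
            refine ⟨m, hm, (e₁ a).val, hx, ?_, ?_⟩
            · rw [hmb]
              exact (hb_bit _).mpr (Or.inr rfl)
            · rw [hmb, or_pow_xor_self p.1 _ hsx]
          rw [hcs'] at this
          exact absurd this (by simp)
        have c3 : okCell (Nat.lor p.1 (Nat.shiftLeft 1 (e₁ a).val)) nb = true := by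
          rw [shl_one]
          show okCell (p.1 ||| 2 ^ (e₁ a).val) nb = true
          rw [← hb_eq]
          exact hokβ
        obtain ⟨c1', c2', hrec⟩ := kids_some _ p.1 p.2 cov bl nb (fmaskT cov p.2) v (some certs)
          certs' hs (e₁ a).val hx c1 c2 c3
        rw [shl_one] at hrec
        have hlor : Nat.lor p.1 (2 ^ (e₁ a).val) = p.1 ||| 2 ^ (e₁ a).val := rfl
        rw [hlor] at hrec
        have key : ∃ e' : α ≃ Fin v, agree k0 e₁ e' ∧ ∀ b ∈ B, tb B0 (toMask e' b) = true := by
          refine ih _ _ _ c1' c2' hrec ?_ ?_ ?_ ?_ H5' ?_ e₁ ?_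
          · -- H1
            intro w
            rw [testBit_covNext]
            constructor
            · rintro (h | h | ⟨u, hu, h⟩)
              · obtain ⟨m, hm, i, hi, hmi, hwm⟩ := (H1 w).mp h
                exact ⟨m, List.mem_cons_of_mem _ hm, i, hi, hmi, hwm⟩
              · refine ⟨_, List.mem_cons_self .., (e₁ a).val, hx, (hb_bit _).mpr (Or.inr rfl), ?_⟩
                rw [h, or_pow_xor_self p.1 _ hsx]
              · obtain ⟨i, hi, hsi, hui⟩ := (hus u).mp hu
                refine ⟨_, List.mem_cons_self .., i, hi, (hb_bit i).mpr (Or.inl hsi), ?_⟩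
                rw [h, hui, or_pow_xor_ne p.1 _ i (hnx i hsi)]
            · rintro ⟨m, hm, i, hi, hmi, hwm⟩
              rcases List.mem_cons.mp hm with rfl | hm'
              · rcases (hb_bit i).mp hmi with hsi | hix
                · right; right
                  refine ⟨p.1 ^^^ 2 ^ i, (hus _).mpr ⟨i, hi, hsi, rfl⟩, ?_⟩
                  rw [hwm, or_pow_xor_ne p.1 _ i (hnx i hsi)]
                · right; left
                  rw [hwm, hix, or_pow_xor_self p.1 _ hsx]
              · exact Or.inl ((H1 w).mpr ⟨m, hm', i, hi, hmi, hwm⟩)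
          · -- H2
            intro m hm i hi
            rw [testBit_splitC] at hi
            rcases List.mem_cons.mp hm with rfl | hm'
            · exact hi.2
            · exact H2 m hm' i hi.1
          · -- H3
            intro i hi
            rw [testBit_splitC] at hi
            exact H3 i hi.1
          · -- H7
            apply List.nodup_cons.mpr
            refine ⟨?_, H7⟩
            intro hm
            have : cov.testBit (p.1 + 32) = true :=
              (H1 _).mpr ⟨_, hm, (e₁ a).val, hx, (hb_bit _).mpr (Or.inr rfl),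
                (or_pow_xor_self p.1 _ hsx).symm⟩
            rw [hcs'] at this
            exact absurd this (by simp)
          · -- H6
            intro m hm
            rcases List.mem_cons.mp hm with rfl | hm'
            · exact hor_lt
            · exact H6 m hm'
          · -- blocks
            intro m hm
            rcases List.mem_cons.mp hm with rfl | hm'
            · rw [hofb]
              exact hβB
            · exact he₁ m hm'

        obtain ⟨e', hag', hB0⟩ := key
        exact ⟨e', agree_trans hag hag', hB0⟩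

end

end Cfsg.Agent.H9.Stc
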