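import Cfsg.Agent.H9.StgMain
import Cfsg.Agent.H9.Stg21

/-! Data and kernel checks for the search for `S(3, 6, 22)` (generated by helper9's
`scratch/gen_stg.py`). -/

set_option autoImplicit false

namespace Cfsg.Agent.H9.Stg

open Cfsg Cfsg.Agent.H9 Cfsg.Agent.H34 Cfsg.Agent.H9.Stc

set_option maxRecDepth 100000 in
/-- the standard system `S(3, 6, 22)`, as a decreasing list of masks -/
def w22L : List ℕ := [4128768, 3207168, 3149568, 3145968, 3145743, 2656392, 2638916, 2630178, 2625809, 2393121, 2377746, 2367876, 2363976, 2261524, 2244904, 2238529, 2233474, 2195778, 2179713, 2171928, 2168868, 1606674, 1591329, 1581384, 1577604, 1345604, 1328264, 1319441, 1315106, 1212801, 1196610, 1188900, 1185816, 1147432, 1130772, 1124482, 1119297, 836352, 801792, 786627, 786492, 692320, 680080, 657670, 656905, 630789, 610314, 592464, 591264, 434186, 413701, 395936, 394576, 364688, 352352, 329993, 329222, 248832, 209664, 196812, 196659, 49318, 49241, 43312, 42688, 39427, 38156, 27148, 25859, 22976, 22064, 12457,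 12374, 3221, 3178, 922, 869]

set_option maxRecDepth 100000 in
/-- the `3`-sets at which the search branches -/
def w22Todo : List (List ℕ) := [[20, 19, 15], [20, 19, 14], [20, 19, 13], [20, 19, 12], [20, 18, 15], [20, 18, 14], [20, 18, 13], [20, 18, 12], [20, 17, 15], [20, 17, 14], [20, 17, 13], [20, 17, 12], [20, 16, 15], [20, 16, 14], [20, 16, 13], [20, 16, 12], [19, 18, 15], [19, 18, 14], [19, 18, 13], [19, 18, 11], [19, 18, 10], [19, 18, 7], [19, 18, 5], [19, 17, 15], [19, 17, 14], [19, 17, 13], [19, 17, 11], [19, 17, 10], [19, 17, 9], [19, 17, 7], [19, 17, 6], [19, 16, 15], [19, 16, 14], [19, 16, 13], [19, 16, 11], [19, 16, 10], [19, 16, 9], [19, 16, 7], [19, 16, 6], [18, 17, 15], [18, 17, 14], [18, 17, 13], [18, 17, 11], [18, 17, 10], [18, 17, 9], [18, 17, 7], [18, 17, 6], [18, 16, 15], [18, 16, 14], [18, 16, 13], [18, 16, 11], [18, 16, 10], [18, 16, 9], [18, 16, 7], [18, 16, 6], [17, 16, 15], [17, 16, 14], [17, 16, 13], [17, 16, 11], [17, 16, 10], [17, 16, 7], [17, 16, 5], [15, 14, 11],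 [15, 14, 10], [15, 14, 7], [15, 14, 6], [15, 13, 11], [15, 13, 10], [15, 13, 9], [15, 13, 7], [15, 13, 6], [15, 12, 11], [15, 12, 10], [15, 12, 9], [15, 12, 7], [15, 12, 5], [14, 13, 11], [14, 13, 10], [14, 13, 9], [14, 13, 7], [14, 13, 5], [14, 12, 11], [14, 12, 10], [14, 12, 9], [14, 12, 7], [14, 12, 6], [13, 12, 11], [13, 12, 10], [13, 12, 7], [13, 12, 6], [11, 10, 7], [11, 10, 6], [11, 9, 7], [11, 9, 5], [11, 8, 7], [11, 8, 6], [10, 9, 7], [10, 9, 6], [10, 8, 7], [10, 8, 5], [9, 8, 7], [9, 8, 6]]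

/-- the leaf certificates -/
def w22Certs : List ℕ := [0x2b49ca307b9ac5a928398a418820, 0x2b442d2a8ca13735ec29cc418820, 0x2956bdcc429699c612314e418820]

set_option maxRecDepth 100000 in
theorem w22_search :
    (srchInit 256 (21 + 1) (2 + 1) (5 + 1) 0 77 w22L w22Todo
      (w21L.map (fun m => Nat.lor m (Nat.shiftLeft 1 21))) 0 w22Certs).isSome = true := by
  decide +kernel

set_option maxRecDepth 100000 in
theorem w22_todo : w22Todo.all (ptsOK (21 + 1) (2 + 1)) = true := by
  decide +kernel

set_option maxRecDepth 100000 in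
theorem w22_bl0 : decr (Nat.shiftLeft 1 (21 + 1))
    (w21L.map (fun m => Nat.lor m (Nat.shiftLeft 1 21))) = true := by
  decide +kernel

set_option maxRecDepth 100000 in
theorem w22_prevlt : w21L.all (fun m => Nat.blt m (Nat.shiftLeft 1 21)) = true := by
  decide +kernel

theorem card_subtype_ne_22 {α : Type*} [Fintype α] [DecidableEq α] (hα : Fintype.card α = 22)
    (p : α) : Fintype.card {a : α // a ≠ p} = 21 := by
  rw [Fintype.card_subtype_compl, Fintype.card_subtype_eq, hα]

/-- Uniqueness of `S(3, 6, 22)`: every such Steiner system is the standard one for a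
suitable numbering of the points. -/
theorem w22_std {α : Type*} [Fintype α] [DecidableEq α] (hα : Fintype.card α = 22)
    {B : Set (Finset α)} (hB : IsSteinerSystem 3 6 B) :
    ∃ e : α ≃ Fin 22, ∀ b : Finset α, b ∈ B ↔ toMask e b ∈ w22L :=
  std_ext w22_search (by norm_num) (by norm_num) (by norm_num) (by decide +kernel)
    (by decide +kernel) (by decide +kernel) w22_todo w22_bl0 w22_prevlt hα hB
    (fun p B' hB' => w21_std (card_subtype_ne_22 hα p) hB')

end Cfsg.Agent.H9.Stg
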